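import Cfsg.Agent.FitMod.Averaging
import Mathlib.FieldTheory.Perfect
import Mathlib.FieldTheory.Finite.Basic
import Mathlib.RingTheory.Trace.Basic
import Mathlib.LinearAlgebra.LinearIndependent.Basic
import Mathlib.LinearAlgebra.Dual.Lemmas
import Mathlib.GroupTheory.Nilpotent
import Mathlib.RingTheory.LittleWedderburn
import Mathlib.Algebra.Algebra.Subalgebra.Lattice

/-!
A nilpotent group acting coprimely on a module over a prime field has a vector whose stabiliser
preserves a non-degenerate bilinear form.
-/

set_option autoImplicit false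
set_option linter.style.haveILetI false
set_option linter.unusedSectionVars false

namespace CfsgLib.FitMod

open Module CfsgLib.SolvLinK

universe u v

section Nilpotent

variable {G : Type u} [Group G] [Group.IsNilpotent G]

/-- A nontrivial normal subgroup of a nilpotent group contains a nontrivial central element. -/
theorem exists_central_mem {L : Subgroup G} [hL : L.Normal] (hL0 : L ≠ ⊥) :
    ∃ z ∈ L, z ≠ 1 ∧ z ∈ Subgroup.center G := by
  by_contra h
  push Not at h
  refine hL0 (eq_bot_iff.2 fun x hx => ?_)
  suffices key : ∀ i, ∀ y ∈ L, y ∈ Subgroup.upperCentralSeries G i → y = 1 by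
    obtain ⟨n, hn⟩ := Group.IsNilpotent.nilpotent' (G := G)
    exact key n x hx (hn.ge (Subgroup.mem_top x))
  intro i
  induction i with
  | zero =>
    intro y _ hy
    rwa [Subgroup.upperCentralSeries_zero, Subgroup.mem_bot] at hy
  | succ i ih =>
    intro y hy hy'
    refine by_contra fun hy1 => h y hy hy1 (Subgroup.mem_center_iff.2 fun g => ?_)
    have h1 : g * y * g⁻¹ * y⁻¹ = 1 := ih _ (L.mul_mem (hL.conj_mem y hy g) (L.inv_mem hy)) (by
      have := (Subgroup.mem_upperCentralSeries_succ_iff.1 hy') g
      have h2 := Subgroup.inv_mem _ this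
      rw [commutatorElement_inv, commutatorElement_def] at h2
      exact h2)
    exact mul_inv_eq_iff_eq_mul.1 (mul_inv_eq_one.1 h1)

/-- A maximal commutative normal subgroup is self-centralising. -/
theorem exists_self_centralizing [Finite G] :
    ∃ A : Subgroup G, A.Normal ∧ (∀ a ∈ A, ∀ b ∈ A, a * b = b * a) ∧
      Subgroup.centralizer (A : Set G) ≤ A := by
  obtain ⟨A, hA⟩ := Set.Finite.exists_maximalFor (fun A : Subgroup G => Nat.card A)
    {A : Subgroup G | A.Normal ∧ ∀ a ∈ A, ∀ b ∈ A, a * b = b * a} (Set.toFinite _)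
    ⟨⊥, inferInstance, fun a ha b _ => by rw [Subgroup.mem_bot] at ha; rw [ha, one_mul, mul_one]⟩
  obtain ⟨hAn, hAc⟩ := hA.1
  refine ⟨A, hAn, hAc, fun c hc => ?_⟩
  haveI := hAn
  let Q := G ⧸ A
  let L : Subgroup Q := (Subgroup.centralizer (A : Set G)).map (QuotientGroup.mk' A)
  haveI : L.Normal := Subgroup.Normal.map inferInstance _ (QuotientGroup.mk'_surjective A)
  by_contra hcA
  obtain ⟨z, ⟨y, hy, rfl⟩, hz1, hz⟩ := exists_central_mem (L := L) fun h => hcA
    ((QuotientGroup.eq_one_iff c).1 (Subgroup.mem_bot.1 (h.le ⟨c, hc, rfl⟩)))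
  have hyA : y ∉ A := fun h => hz1 ((QuotientGroup.eq_one_iff y).2 h)
  let B := A ⊔ Subgroup.zpowers y
  have hBn : B.Normal := by
    have hle : A ≤ B := le_sup_left
    refine ⟨fun b hb g => ?_⟩
    have h1 : g * b * g⁻¹ * b⁻¹ ∈ A := by
      refine (QuotientGroup.eq_one_iff _).1 ?_
      have hcen : ((b : G) : Q) ∈ Subgroup.center Q := by
        have : B.map (QuotientGroup.mk' A) ≤ Subgroup.center Q := by
          rw [Subgroup.map_sup, (Subgroup.map_eq_bot_iff A).2 (QuotientGroup.ker_mk' A).ge, bot_sup_eq,
            MonoidHom.map_zpowers, Subgroup.zpowers_le]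
          exact hz
        exact this ⟨b, hb, rfl⟩
      simp only [QuotientGroup.mk_mul, QuotientGroup.mk_inv]
      rw [Subgroup.mem_center_iff.1 hcen (g : Q), mul_inv_cancel_right, mul_inv_cancel]
    have := B.mul_mem (hle h1) hb
    rwa [inv_mul_cancel_right] at this
  have hBc : ∀ a ∈ B, ∀ b ∈ B, a * b = b * a := by
    have hle : B ≤ Subgroup.centralizer (B : Set G) := by
      have hyy : Subgroup.zpowers y ≤ Subgroup.centralizer (A : Set G) := (Subgroup.zpowers_le).2 hy
      refine sup_le ?_ ?_ <;> rw [Subgroup.le_centralizer_iff] <;> refine sup_le ?_ ?_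
      · intro a ha b hb; exact hAc b hb a ha
      · exact hyy
      · rw [Subgroup.le_centralizer_iff]; exact hyy
      · rintro a ha b hb
        obtain ⟨i, rfl⟩ := Subgroup.mem_zpowers_iff.1 ha
        obtain ⟨j, rfl⟩ := Subgroup.mem_zpowers_iff.1 hb
        exact (Commute.zpow_zpow_self y j i).eq
    exact fun a ha b hb => (hle hb) a ha
  have := Subgroup.eq_of_le_of_card_ge (le_sup_left : A ≤ B)
    (hA.2 ⟨hBn, hBc⟩ (Subgroup.card_le_of_le le_sup_left))
  exact hyA (this.ge (Subgroup.mem_sup_right (Subgroup.mem_zpowers y)))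

end Nilpotent

variable {p : ℕ} [Fact p.Prime]

/-- Some vector has a stabiliser preserving a non-degenerate bilinear form. -/
def Good {G : Type u} [Group G] {V : Type v} [AddCommGroup V] [Module (ZMod p) V]
    (π : G →* Module.End (ZMod p) V) : Prop :=
  ∃ (v : V) (B : LinearMap.BilinForm (ZMod p) V), (∀ x, (∀ y, B x y = 0) → x = 0) ∧
    ∀ g, π g v = v → ∀ x y, B (π g x) (π g y) = B x y

section Homogeneous

variable {G : Type u} [Group G] [Finite G] {V : Type v} [AddCommGroup V] [Module (ZMod p) V] [Finite V]

/-- The operators of a commutative subgroup generate a field: semilinear descent gives the form. -/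
theorem good_of_homogeneous (π : G →* Module.End (ZMod p) V) (hinj : Function.Injective π)
    (A : Subgroup G) [hAn : A.Normal] (hAc : ∀ a ∈ A, ∀ b ∈ A, a * b = b * a)
    (hself : Subgroup.centralizer (A : Set G) ≤ A) (E : Subalgebra (ZMod p) (Module.End (ZMod p) V))
    (hEg : E = Algebra.adjoin (ZMod p) (π '' A))
    (hfree : ∀ e ∈ E, e ≠ 0 → Function.Injective e) {v : V} (hv : v ≠ 0) : Good π := by
  classical
  have hcomm : ∀ a ∈ π '' (A : Set G), ∀ b ∈ π '' (A : Set G), a * b = b * a := by
    rintro _ ⟨a, ha, rfl⟩ _ ⟨b, hb, rfl⟩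
    rw [← map_mul, ← map_mul, hAc a ha b hb]
  subst hEg
  set E := Algebra.adjoin (ZMod p) (π '' (A : Set G)) with hE
  letI : CommRing E := Algebra.adjoinCommRingOfComm _ hcomm
  haveI : Finite (Module.End (ZMod p) V) := Finite.of_injective
    (fun f : Module.End (ZMod p) V => (f : V → V)) DFunLike.coe_injective
  haveI : Finite E := Finite.of_injective (fun e : E => (e : Module.End (ZMod p) V)) Subtype.val_injective
  haveI : Nontrivial E := ⟨⟨1, 0, fun h => hv (LinearMap.congr_fun (congrArg Subtype.val h :) v)⟩⟩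
  haveI : NoZeroDivisors E := ⟨fun {e f} h => or_iff_not_imp_left.2 fun he => Subtype.ext (LinearMap.ext fun x =>
    hfree e e.2 (fun h0 => he (Subtype.ext h0)) (by
      show (e : Module.End (ZMod p) V) ((f : Module.End (ZMod p) V) x) = (e : Module.End (ZMod p) V) 0
      rw [map_zero]
      exact LinearMap.congr_fun (congrArg Subtype.val h :) x))⟩
  haveI : IsDomain E := NoZeroDivisors.to_isDomain E
  letI : Field E := (Finite.isDomain_to_isField E).toField
  haveI : Module.Finite (ZMod p) E := Module.Finite.of_finite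
  letI : Module E V := Module.compHom V E.val.toRingHom
  have hsmul : ∀ (e : E) (x : V), e • x = (e : Module.End (ZMod p) V) x := fun _ _ => rfl
  haveI : IsScalarTower (ZMod p) E V := ⟨fun c e x => rfl⟩
  haveI : Module.Finite E V := Module.Finite.of_finite
  -- conjugation
  have hconj : ∀ g : G, ∀ e ∈ E, π g * e * π g⁻¹ ∈ E := by
    intro g e he
    induction he using Algebra.adjoin_induction with
    | mem x hx =>
      obtain ⟨a, ha, rfl⟩ := hx
      exact Algebra.subset_adjoin ⟨g * a * g⁻¹, hAn.conj_mem a ha g, by rw [map_mul, map_mul]⟩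
    | algebraMap c =>
      rw [← Algebra.commutes, mul_assoc, ← map_mul, mul_inv_cancel, map_one, mul_one]
      exact Subalgebra.algebraMap_mem _ c
    | add x y _ _ hx hy => rw [mul_add, add_mul]; exact add_mem hx hy
    | mul x y _ _ hx hy =>
      have : π g * (x * y) * π g⁻¹ = (π g * x * π g⁻¹) * (π g * y * π g⁻¹) := by
        simp only [mul_assoc]
        rw [← mul_assoc (π g⁻¹) (π g), ← map_mul, inv_mul_cancel, map_one, one_mul]
      rw [this]
      exact mul_mem hx hy
  have hinv : ∀ g, π g⁻¹ * π g = 1 := fun g => by rw [← map_mul, inv_mul_cancel, map_one]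
  have hinv' : ∀ g, π g * π g⁻¹ = 1 := fun g => by rw [← map_mul, mul_inv_cancel, map_one]
  let σ : G → (E →ₐ[ZMod p] E) := fun g =>
    { toFun := fun e => ⟨π g * e * π g⁻¹, hconj g e e.2⟩
      map_one' := Subtype.ext (by show π g * 1 * π g⁻¹ = 1; rw [mul_one, hinv'])
      map_mul' := fun e f => Subtype.ext (by
        show π g * ((e : Module.End (ZMod p) V) * f) * π g⁻¹ = π g * e * π g⁻¹ * (π g * f * π g⁻¹)
        simp only [mul_assoc]
        rw [← mul_assoc (π g⁻¹) (π g), hinv, one_mul])
      map_zero' := Subtype.ext (by show π g * 0 * π g⁻¹ = 0; rw [mul_zero, zero_mul])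
      map_add' := fun e f => Subtype.ext (by
        show π g * ((e : Module.End (ZMod p) V) + f) * π g⁻¹ = π g * e * π g⁻¹ + π g * f * π g⁻¹
        rw [mul_add, add_mul])
      commutes' := fun c => Subtype.ext (by
        show π g * algebraMap (ZMod p) (Module.End (ZMod p) V) c * π g⁻¹ = algebraMap (ZMod p) _ c
        rw [← Algebra.commutes, mul_assoc, hinv', mul_one]) }
  have hsemi : ∀ g (e : E) (x : V), π g (e • x) = σ g e • π g x := fun g e x => by
    rw [hsmul, hsmul]
    show π g ((e : Module.End (ZMod p) V) x) = (π g * e * π g⁻¹) (π g x)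
    rw [Module.End.mul_apply, Module.End.mul_apply, ← Module.End.mul_apply (π g⁻¹), hinv, Module.End.one_apply]
  -- the stabiliser
  let H : Subgroup G :=
    { carrier := {g | π g v = v}
      one_mem' := by show π 1 v = v; rw [map_one, Module.End.one_apply]
      mul_mem' := fun {a b} ha hb => by
        show π (a * b) v = v
        rw [map_mul, Module.End.mul_apply, show π b v = v from hb, show π a v = v from ha]
      inv_mem' := fun {a} ha => by
        show π a⁻¹ v = v
        conv_lhs => rw [← show π a v = v from ha]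
        rw [← Module.End.mul_apply, hinv, Module.End.one_apply] }
  haveI := Fintype.ofFinite H
  have hHA : ∀ a ∈ A, a ∈ H → a = 1 := fun a ha haH => hinj (by
    rw [map_one]
    by_contra hne
    have hmem : π a - 1 ∈ E := sub_mem (Algebra.subset_adjoin ⟨a, ha, rfl⟩) (one_mem _)
    refine hv (hfree _ hmem (sub_ne_zero.2 hne) ?_)
    rw [LinearMap.sub_apply, Module.End.one_apply, show π a v = v from haH, sub_self, map_zero])
  have hσinj : Function.Injective (fun h : H => ((σ h).toRingHom.toMonoidHom : E →* E)) := by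
    intro h h' e
    have key : (h' : G)⁻¹ * h ∈ Subgroup.centralizer (A : Set G) := fun a ha => by
      have e1 : π h * π a * π (h : G)⁻¹ = π h' * π a * π (h' : G)⁻¹ :=
        congrArg Subtype.val (DFunLike.congr_fun e (⟨π a, Algebra.subset_adjoin ⟨a, ha, rfl⟩⟩ : E))
      rw [← map_mul, ← map_mul, ← map_mul, ← map_mul] at e1
      have e2 := hinj e1
      calc a * ((h' : G)⁻¹ * h) = (h' : G)⁻¹ * ((h' : G) * a * (h' : G)⁻¹) * h := by group
        _ = (h' : G)⁻¹ * h * a := by rw [← e2]; group
    have := hHA _ (hself key) (H.mul_mem (H.inv_mem h'.2) h.2)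
    exact Subtype.ext (inv_mul_eq_one.1 this).symm
  let F : Submodule E V := Submodule.span E {x | ∀ h : H, π h x = x}
  have hF : F = ⊤ := by
    by_contra hne
    obtain ⟨x, hx⟩ : ∃ x, x ∉ F := by
      by_contra hc
      push Not at hc
      exact hne (eq_top_iff.2 fun x _ => hc x)
    obtain ⟨φ, hφx, hφF⟩ := Submodule.exists_dual_map_eq_bot_of_notMem hx inferInstance
    have hsum : ∀ c : E, ∑ h : H, φ (π h x) * σ h c = 0 := by
      intro c
      have hfix : ∑ h : H, σ h c • π h x ∈ F := Submodule.subset_span fun h' => by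
        rw [map_sum]
        refine Fintype.sum_equiv (Equiv.mulLeft h') _ _ fun h => ?_
        rw [hsemi, Equiv.coe_mulLeft, Subgroup.coe_mul]
        congr 1
        · refine Subtype.ext ?_
          show π h' * (π h * (c : Module.End (ZMod p) V) * π (h : G)⁻¹) * π (h' : G)⁻¹ =
            π ((h' : G) * h) * (c : Module.End (ZMod p) V) * π ((h' : G) * h)⁻¹
          rw [mul_inv_rev, map_mul, map_mul]
          simp only [mul_assoc]
        · rw [map_mul, Module.End.mul_apply]
      have h0 : φ (∑ h : H, σ h c • π h x) = 0 :=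
        (Submodule.mem_bot E).1 (hφF.le ⟨_, hfix, rfl⟩)
      rw [map_sum] at h0
      rw [← h0]
      exact Finset.sum_congr rfl fun h _ => by rw [map_smul, smul_eq_mul, mul_comm]
    have hli := Fintype.linearIndependent_iff.1 ((linearIndependent_monoidHom E E).comp _ hσinj)
      (fun h => φ (π h x)) (funext fun c => by
        simp only [Finset.sum_apply, Pi.smul_apply, smul_eq_mul, Function.comp_apply, Pi.zero_apply]
        exact hsum c) 1
    simp only [OneMemClass.coe_one, map_one, Module.End.one_apply] at hli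
    exact hφx hli
  obtain ⟨s, hs, hspan, hli⟩ := exists_linearIndependent E {x : V | ∀ h : H, π h x = x}
  let b : Module.Basis s E V := Module.Basis.mk hli (by rw [Subtype.range_coe_subtype, Set.setOf_mem_eq, hspan]; exact hF.ge)
  haveI : Fintype s := Fintype.ofFinite _
  have hb : ∀ (h : H) (i : s), π h (b i) = b i := fun h i => by
    rw [Module.Basis.mk_apply]
    exact hs i.2 h
  have hrepr : ∀ (h : H) (x : V) (i : s), b.repr (π h x) i = σ h (b.repr x i) := by
    intro h x i
    have e : π h x = ∑ j, σ h (b.repr x j) • b j := by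
      conv_lhs => rw [← b.sum_repr x]
      rw [map_sum]
      exact Finset.sum_congr rfl fun j _ => (hsemi (h : G) _ _).trans (congrArg _ (hb h j))
    rw [e]
    exact congrFun (b.repr_sum_self _) i
  let coord : s → (V →ₗ[ZMod p] E) := fun i =>
    { toFun := fun x => b.repr x i
      map_add' := fun x y => by rw [map_add]; rfl
      map_smul' := fun c x => by
        have e : c • x = algebraMap (ZMod p) E c • x := rfl
        rw [RingHom.id_apply, e, Algebra.smul_def]
        exact congrFun (congrArg DFunLike.coe (b.repr.map_smul (algebraMap (ZMod p) E c) x)) i }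
  let B : LinearMap.BilinForm (ZMod p) V :=
    ∑ i : s, (((Algebra.traceForm (ZMod p) E).comp (coord i) (coord i)))
  have hB : ∀ x y, B x y = ∑ i, Algebra.trace (ZMod p) E (b.repr x i * b.repr y i) := fun x y => by
    simp only [B, LinearMap.sum_apply]
    rfl
  refine ⟨v, B, fun x hx => ?_, fun g hg x y => ?_⟩
  · refine b.repr.map_eq_zero_iff.1 (Finsupp.ext fun i => ?_)
    by_contra hne
    obtain ⟨t, ht⟩ := Algebra.trace_surjective (ZMod p) E 1
    have hself' : ∀ (c : E) (j : s), b.repr (c • b i) j = c * Finsupp.single i 1 j := fun c j => by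
      refine (congrFun (congrArg DFunLike.coe (b.repr.map_smul c (b i))) j).trans ?_
      rw [b.repr_self]
      rfl
    have h1 := hx (((b.repr x i)⁻¹ * t) • b i)
    rw [hB, Finset.sum_eq_single i (fun j _ hj => by
        rw [hself', Finsupp.single_eq_of_ne hj, mul_zero, mul_zero, map_zero])
      (fun h => absurd (Finset.mem_univ _) h), hself', Finsupp.single_eq_same, mul_one,
      mul_inv_cancel_left₀ hne, ht] at h1
    exact one_ne_zero h1
  · rw [hB, hB]
    refine Finset.sum_congr rfl fun i _ => ?_
    rw [hrepr ⟨g, hg⟩, hrepr ⟨g, hg⟩, ← map_mul]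
    let e : E ≃ₐ[ZMod p] E := AlgEquiv.ofBijective (σ g)
      (Finite.injective_iff_bijective.1 (σ g).toRingHom.injective)
    exact Algebra.trace_eq_of_algEquiv e _

end Homogeneous

end CfsgLib.FitMod
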