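import Cfsg.Agent.SolvLinK.Clifford
import Mathlib.LinearAlgebra.Projection
import Mathlib.LinearAlgebra.Basis.VectorSpace

/-!
Complete reducibility when the group order is invertible.
-/

set_option autoImplicit false
set_option linter.style.haveILetI false

namespace CfsgLib.FitMod

open CfsgLib.SolvLinK

theorem isCR_of_card_ne_zero {k : Type*} [Field k] {W : Type*} [AddCommGroup W] [Module k W] {G : Type*}
    [Group G] [Finite G] (π : G →* Module.End k W) (hG : (Nat.card G : k) ≠ 0) : IsCR π := by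
  classical
  haveI := Fintype.ofFinite G
  intro U hU
  obtain ⟨U', hU'⟩ := U.exists_isCompl
  let P : W →ₗ[k] W := U.subtype.comp (U.projectionOnto U' hU')
  have hPmem : ∀ w, P w ∈ U := fun w => Submodule.coe_mem _
  have hPfix : ∀ w ∈ U, P w = w := fun w hw =>
    congrArg Subtype.val (Submodule.projectionOnto_apply_left hU' ⟨w, hw⟩)
  let Q : W →ₗ[k] W := (Nat.card G : k)⁻¹ • ∑ g : G, π g * P * π g⁻¹
  have hQmem : ∀ w, Q w ∈ U := fun w => by
    simp only [Q, LinearMap.smul_apply, LinearMap.sum_apply, Module.End.mul_apply]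
    exact U.smul_mem _ (U.sum_mem fun g _ => hU g _ (hPmem _))
  have hQfix : ∀ w ∈ U, Q w = w := fun w hw => by
    simp only [Q, LinearMap.smul_apply, LinearMap.sum_apply, Module.End.mul_apply]
    rw [Finset.sum_congr rfl fun g _ => by rw [hPfix _ (hU g⁻¹ w hw), rep_apply_inv], Finset.sum_const,
      Finset.card_univ, ← Nat.card_eq_fintype_card, ← Nat.cast_smul_eq_nsmul k, smul_smul, inv_mul_cancel₀ hG,
      one_smul]
  have hcomm : ∀ h w, Q (π h w) = π h (Q w) := fun h w => by
    simp only [Q, LinearMap.smul_apply, LinearMap.sum_apply, Module.End.mul_apply, map_smul, map_sum]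
    congr 1
    refine Fintype.sum_equiv (Equiv.mulLeft h⁻¹) _ _ fun g => ?_
    rw [Equiv.coe_mulLeft, ← Module.End.mul_apply (π g⁻¹), ← map_mul,
      ← Module.End.mul_apply (π h) (π (h⁻¹ * g)), ← map_mul, mul_inv_cancel_left, mul_inv_rev, inv_inv]
  refine ⟨LinearMap.ker (Q.codRestrict U hQmem), fun g w hw => ?_,
    LinearMap.isCompl_of_proj fun x => Subtype.ext (hQfix x x.2)⟩
  rw [LinearMap.mem_ker] at hw ⊢
  refine Subtype.ext ?_
  show Q (π g w) = 0
  rw [hcomm, show Q w = 0 from congrArg Subtype.val hw, map_zero]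

end CfsgLib.FitMod
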