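import Cfsg.Agent.FitMod.Fpf
import Cfsg.Agent.SolvLinK.Binary

/-!
Class numbers of solvable irreducible groups of isometries in characteristic two.
-/

set_option autoImplicit false
set_option linter.style.haveILetI false
set_option linter.unusedSectionVars false

open scoped Pointwise

namespace CfsgLib.FitMod

open CfsgLib.SolvLinK

universe u

/-- The class number bound for all groups of automorphisms of a binary space. -/
def blkB (r : ℕ) : ℕ := 1 + (2 ^ r - 1) * (∏ i ∈ Finset.Ico 2 r, (2 ^ r - 2 ^ i)) - 1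

theorem blocks_arith {m r t : ℕ} (hm : m = 2 ∨ m = 3 ∨ m = 4) (hr : 2 ≤ r) (ht : 2 ≤ t) (hrt : r * t ≤ 2 * m) :
    blkB r ^ t * t.factorial ≤ 3 ^ (2 ^ m - 1) := by
  have hr4 : r ≤ 4 := by rcases hm with rfl | rfl | rfl <;> nlinarith
  have ht4 : t ≤ 4 := by rcases hm with rfl | rfl | rfl <;> nlinarith
  interval_cases r <;> interval_cases t <;> rcases hm with rfl | rfl | rfl <;>
    simp_all [blkB, Finset.prod_Ico_succ_top, Nat.factorial]

variable {V : Type u} [CommGroup V] [Finite V] {S : Subgroup (MulAut V)} {k : Type*} [Field k]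

/-- A fixed-point-free normal subgroup of prime order. -/
theorem kb_fpf {β : V →* V →* kˣ} {m ℓ : ℕ} {b : MulAut V} (hm : m = 2 ∨ m = 3 ∨ m = 4)
    (D : FpfData β (2 * m) ℓ b) {C : Subgroup (MulAut V)} (hC : FpfGroup β b C) :
    ∃ c, KB C c ∧ c * (ℓ - 1) ≤ 3 ^ (2 ^ m - 1) := by
  have hd : ℓ ∣ 2 ^ (2 * m) - 1 := by
    have := dvd_invariant D.hℓ b D.hpow {y : V | y ≠ 1}
      (fun y hy h => hy ((MulEquiv.map_eq_one_iff b).1 h)) (fun y hy h => hy (D.hfree y h))
    rwa [show {y : V | y ≠ 1} = ({1} : Set V)ᶜ from rfl, Set.ncard_compl, Set.ncard_singleton, D.hV] at this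
  have hle : ℓ ≤ 2 ^ (2 * m) - 1 := Nat.le_of_dvd (by
    have : 2 ≤ 2 ^ (2 * m) := Nat.le_self_pow (by omega) 2
    omega) hd
  have hp := D.hℓ
  rcases hm with rfl | rfl | rfl
  · have hl : ℓ = 3 ∨ ℓ = 5 := by
      norm_num at hd hle
      interval_cases ℓ <;> first | omega | (revert hp; norm_num; done)
    rcases hl with rfl | rfl
    · exact ⟨12, (kb_fpf_four D hC).1 rfl, by norm_num⟩
    · exact ⟨5, (kb_fpf_four D hC).2 rfl, by norm_num⟩
  · have hl : ℓ = 3 ∨ ℓ = 7 := by
      norm_num at hd hle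
      interval_cases ℓ <;> first | omega | (revert hp; norm_num; done)
    rcases hl with rfl | rfl
    · exact ⟨254, kb_fpf_six_three D hC, by norm_num⟩
    · exact ⟨315, kb_fpf_six_seven D hC, by norm_num⟩
  · have hl : ℓ = 3 ∨ ℓ = 5 ∨ ℓ = 17 := by
      have h3 : ℓ ∣ 3 * (5 * 17) := by norm_num at hd ⊢; exact hd
      rcases (Nat.Prime.dvd_mul hp).1 h3 with h | h
      · exact Or.inl ((Nat.prime_dvd_prime_iff_eq hp Nat.prime_three).1 h)
      rcases (Nat.Prime.dvd_mul hp).1 h with h | h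
      · exact Or.inr (Or.inl ((Nat.prime_dvd_prime_iff_eq hp (by norm_num)).1 h))
      · exact Or.inr (Or.inr ((Nat.prime_dvd_prime_iff_eq hp (by norm_num)).1 h))
    refine ⟨_, KB.of_card (hC.card_le D), ?_⟩
    rcases hl with rfl | rfl | rfl <;> decide

/-- Solvable irreducible binary isometries. -/
theorem kb_binary (β : V →* V →* kˣ) (hnd : ∀ y, (∀ x, β x y = 1) → y = 1)
    (hskew : ∀ x y, β x y * β y x = 1)
    (hiso : ∀ φ ∈ S, ∀ x y, β (φ x) (φ y) = β x y) (hsol : Group.IsSolvable S) (hirr : IrrAut S)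
    (hexp : ∀ x : V, x ^ 2 = 1) {m : ℕ} (hm : m = 2 ∨ m = 3 ∨ m = 4) (hV : Nat.card V = 2 ^ (2 * m)) :
    KB S (3 ^ (2 ^ m - 1)) := by
  classical
  haveI := finite_mulAut (V := V)
  obtain ⟨n, hn⟩ : ∃ n, n = 2 * m := ⟨_, rfl⟩
  rw [← hn] at hV
  have hn0 : n ≠ 0 := by omega
  rcases eq_or_ne (Nat.card S) 1 with h1 | h1
  · exact KB.of_card (h1.le.trans (Nat.one_le_pow _ _ (by norm_num)))
  have htop : (⊤ : Subgroup S) ≠ ⊥ := fun h => h1 (by rw [← Subgroup.card_top, h, Subgroup.card_bot])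
  haveI : Group.IsSolvable (⊤ : Subgroup S) :=
    Group.isSolvable_of_isSolvable_injective (Subgroup.subtype_injective (⊤ : Subgroup S))
  obtain ⟨A, hA, hA0, -, hAc, -, ℓ, hℓ, hexpA, hAp⟩ :=
    CfsgLib.Solvable.exists_normal_elementary_le (N := (⊤ : Subgroup S)) htop inferInstance
  haveI := hA
  haveI : Fact ℓ.Prime := ⟨hℓ⟩
  have hℓ2 : ℓ ≠ 2 := fun h => not_two_group hirr hn0 hV hA0 (h ▸ hAp)
  have hodd : Odd ℓ := hℓ.odd_of_ne_two hℓ2
  have hcomm : ∀ a ∈ A, ∀ b ∈ A, a * b = b * a := fun a ha b hb =>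
    congrArg Subtype.val (hAc.is_comm.comm ⟨a, ha⟩ ⟨b, hb⟩)
  have hfA : fixS S A = ⊥ := fixS_normal hirr hA0
  have hne : fixS S (⊥ : Subgroup S) ≠ ⊥ := by
    intro h
    have : fixS S (⊥ : Subgroup S) = ⊤ := eq_top_iff.2 fun x _ l hl => by
      rw [Subgroup.mem_bot] at hl; rw [hl, one_smul]
    rw [this] at h
    have hc := congrArg (fun U : Subgroup V => Nat.card U) h
    simp only [Subgroup.card_top, Subgroup.card_bot, hV] at hc
    exact absurd hc (Nat.one_lt_two_pow hn0).ne'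
  obtain ⟨M, hM⟩ := Set.Finite.exists_maximalFor (fun L : Subgroup S => Nat.card L)
    {L : Subgroup S | L ≤ A ∧ fixS S L ≠ ⊥} (Set.toFinite _) ⟨⊥, bot_le, hne⟩
  obtain ⟨hMA, hMU⟩ := hM.1
  have hbig : ∀ L, L ≤ A → Nat.card M < Nat.card L → fixS S L = ⊥ := fun L hL hlt => by
    by_contra h
    exact (hM.2 ⟨hL, h⟩ hlt.le).not_gt hlt
  -- norms vanish outside `M`
  have hnorm : ∀ c ∈ A, c ∉ M → ∀ x ∈ fixS S M, ∏ i ∈ Finset.range ℓ, c ^ i • x = 1 := by
    intro c hcA hcM x hx
    have hlt : Nat.card M < Nat.card (M ⊔ Subgroup.zpowers c : Subgroup S) :=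
      CfsgLib.Solvable.card_lt_of_lt (lt_of_le_of_ne le_sup_left fun h =>
        hcM (h ▸ Subgroup.mem_sup_right (Subgroup.mem_zpowers c)))
    have h0 := hbig _ (sup_le hMA ((Subgroup.zpowers_le).2 hcA)) hlt
    rw [← Subgroup.mem_bot, ← h0]
    intro l hl
    have hcfix : c • (∏ i ∈ Finset.range ℓ, c ^ i • x) = ∏ i ∈ Finset.range ℓ, c ^ i • x := by
      rw [Finset.smul_prod']
      simp only [← mul_smul, ← pow_succ']
      have e := Finset.prod_range_succ' (fun i => c ^ i • x) ℓ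
      rw [Finset.prod_range_succ, hexpA c hcA, pow_zero] at e
      exact (mul_right_cancel e).symm
    have hle : M ⊔ Subgroup.zpowers c ≤ MulAction.stabilizer S (∏ i ∈ Finset.range ℓ, c ^ i • x) := by
      refine sup_le (fun m hm => ?_) ((Subgroup.zpowers_le).2 hcfix)
      show m • _ = _
      rw [Finset.smul_prod']
      refine Finset.prod_congr rfl fun i _ => ?_
      rw [← mul_smul, hcomm m (hMA hm) _ (A.pow_mem hcA i), mul_smul, hx m hm]
    exact hle hl
  obtain ⟨b, hbA, hbM⟩ : ∃ b ∈ A, b ∉ M := by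
    by_contra hc
    push Not at hc
    exact hMU (by rw [le_antisymm hMA hc]; exact hfA)
  have hsup : ∀ a ∈ A, a ∈ M ⊔ Subgroup.zpowers b := by
    intro a haA
    by_contra ha
    refine hMU (eq_bot_iff.2 fun x hx => Subgroup.mem_bot.2 ?_)
    have h0 : ∏ i ∈ Finset.range ℓ, ∏ j ∈ Finset.range ℓ, (a * b ^ i) ^ j • x = 1 :=
      Finset.prod_eq_one fun i _ => hnorm _ (A.mul_mem haA (A.pow_mem hbA i)) (fun h => ha (by
        rw [show a = (a * b ^ i) * (b ^ i)⁻¹ by group]
        exact Subgroup.mul_mem _ (Subgroup.mem_sup_left h)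
          (Subgroup.inv_mem _ (Subgroup.pow_mem _ (Subgroup.mem_sup_right (Subgroup.mem_zpowers b)) _)))) x hx
    rw [Finset.prod_comm, Finset.prod_eq_single 0] at h0
    · simp only [pow_zero, one_smul, Finset.prod_const, Finset.card_range] at h0
      obtain ⟨e, rfl⟩ := hodd
      rwa [pow_succ, pow_mul, hexp, one_pow, one_mul] at h0
    · intro j hj hj0
      have hcj : ∀ i, (a * b ^ i) ^ j • x = a ^ j • (b ^ j) ^ i • x := fun i => by
        rw [(show Commute a (b ^ i) from hcomm a haA _ (A.pow_mem hbA i)).mul_pow, mul_smul, ← pow_mul,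
          ← pow_mul, mul_comm i j]
      simp only [hcj, ← Finset.smul_prod']
      rw [hnorm _ (A.pow_mem hbA j) (fun h => hbM ?_) x hx, smul_one]
      have hjlt := Finset.mem_range.1 hj
      obtain ⟨u, hu⟩ : ∃ u, j * u ≡ 1 [MOD ℓ] := by
        obtain ⟨u, hu⟩ := Nat.exists_mul_mod_eq_one_of_coprime (k := ℓ) (n := j)
          ((hℓ.coprime_iff_not_dvd.2 fun hd => absurd (Nat.le_of_dvd (by omega) hd) (by omega)).symm) hℓ.one_lt
        exact ⟨u, by rw [Nat.ModEq, hu.2, Nat.one_mod_eq_one.2 hℓ.one_lt.ne']⟩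
      have hb1 : b ^ (j * u) = b ^ 1 := pow_eq_pow_iff_modEq.2 (hu.of_dvd (orderOf_dvd_of_pow_eq_one (hexpA b hbA)))
      rw [pow_one, pow_mul] at hb1
      rw [← hb1]
      exact M.pow_mem h u
    · intro h; exact absurd (Finset.mem_range.2 hℓ.pos) h
  rcases eq_or_ne M ⊥ with rfl | hM0
  · -- a fixed-point-free element of odd prime order
    have hAz : A = Subgroup.zpowers b := le_antisymm (fun a ha => by simpa using hsup a ha)
      ((Subgroup.zpowers_le).2 hbA)
    have hob : orderOf b = ℓ := orderOf_eq_prime (hexpA b hbA) fun h => hbM (by rw [h]; exact Subgroup.one_mem _)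
    have hfree : ∀ y, (b : MulAut V) y = y → y = 1 := fun y hy => by
      rw [← Subgroup.mem_bot, ← hfA]
      intro l hl
      rw [hAz] at hl
      exact (Subgroup.zpowers_le.2 (show b ∈ MulAction.stabilizer S y from hy)) hl
    have D : FpfData β (2 * m) ℓ (b : MulAut V) :=
      { hV := hn ▸ hV, hexp := hexp, hnd := hnd, hskew := hskew, hℓ := hℓ, hodd := hℓ2,
        hpow := by rw [← Subgroup.coe_pow, hexpA b hbA, Subgroup.coe_one]
        hfree := hfree, hiso := hiso _ b.2 }
    let σ : S →* MulAut A := MulAut.conjNormal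
    have hσ : Nat.card σ.range ≤ ℓ - 1 := by
      refine (Subgroup.card_le_card_group _).trans ((card_mulAut_le hℓ (d := 1) ?_).trans (by simp))
      rw [hAz, Nat.card_zpowers, hob, pow_one]
    let C : Subgroup (MulAut V) := σ.ker.map S.subtype
    have hC : FpfGroup β (b : MulAut V) C := by
      refine ⟨fun c hc => hiso c (Subgroup.map_subtype_le _ hc), fun c hc => ?_⟩
      obtain ⟨s, hs, rfl⟩ := hc
      have h1 : s * b * s⁻¹ = b := by
        rw [← MulAut.conjNormal_apply s ⟨b, hbA⟩]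
        exact congrArg Subtype.val (DFunLike.congr_fun hs ⟨b, hbA⟩)
      exact congrArg Subtype.val (mul_inv_eq_iff_eq_mul.1 h1)
    obtain ⟨c, hc, hc'⟩ := kb_fpf hm D hC
    refine (KB.ext σ.rangeRestrict ?_ (KB.of_card hσ)).mono hc'
    rw [MonoidHom.ker_rangeRestrict]
    exact hc.of_injective (σ.ker.equivMapOfInjective S.subtype S.subtype_injective).toMonoidHom
      (σ.ker.equivMapOfInjective S.subtype S.subtype_injective).injective
  -- blocks
  let U := fixS S M
  have hUne : U ≠ ⊤ := fun h => hM0 (eq_bot_iff.2 fun l hl => Subgroup.mem_bot.2 (Subtype.ext (MulEquiv.ext fun x =>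
    (h.ge (Subgroup.mem_top x) : x ∈ fixS S M) l hl)))
  let Ω := MulAction.orbit S U
  haveI : Fintype Ω := Fintype.ofFinite _
  have hconj : ∀ (g : S) (y : V), y ∈ g • U ↔ ∀ m ∈ M, (g * m * g⁻¹) • y = y := by
    intro g y
    show y ∈ (g : MulAut V) • U ↔ _
    rw [Subgroup.mem_pointwise_smul_iff_inv_smul_mem]
    show g⁻¹ • y ∈ fixS S M ↔ _
    rw [mem_fixS]
    refine forall₂_congr fun m _ => ?_
    rw [mul_smul, mul_smul]
    exact ⟨fun h => by rw [h, smul_inv_smul],
      fun h => smul_left_cancel g (h.trans (smul_inv_smul g y).symm)⟩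
  have hpow : Odd (Nat.card M) := by
    obtain ⟨e, he⟩ := IsPGroup.iff_card.1 (hAp.to_le hMA)
    rw [he]; exact hodd.pow
  let f : (∀ ω : Ω, (ω : Subgroup V)) → V := fun u => ∏ ω : Ω, (u ω : V)
  have hfinj : Function.Injective f := by
    intro u u' huu
    funext ω
    obtain ⟨g, hg⟩ := ω.2
    let M' := M.map (MulAut.conj g).toMonoidHom
    haveI : Fintype M' := Fintype.ofFinite _
    let P : V →* V :=
      { toFun := fun y => ∏ m : M', (m : S) • y
        map_one' := by simp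
        map_mul' := fun y z => by simp [smul_mul', Finset.prod_mul_distrib] }
    have hM'A : M' ≤ A := by
      rintro _ ⟨m, hm, rfl⟩
      exact hA.conj_mem m (hMA hm) g
    have hM'c : Nat.card M' = Nat.card M :=
      (Nat.card_congr (Subgroup.equivMapOfInjective M _ (MulAut.conj g).injective).toEquiv).symm
    have hfixP : ∀ y, P y ∈ fixS S M' := fun y l hl => by
      show l • ∏ m : M', (m : S) • y = ∏ m : M', (m : S) • y
      rw [Finset.smul_prod']
      exact Fintype.prod_equiv (Equiv.mulLeft ⟨l, hl⟩) _ _ fun m => by rw [← mul_smul]; rfl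
    have hPeq : ∀ y ∈ (ω : Subgroup V), P y = y := by
      intro y hy
      show ∏ m : M', (m : S) • y = y
      rw [Finset.prod_eq_pow_card (b := y), Finset.card_univ, ← Nat.card_eq_fintype_card, hM'c]
      · obtain ⟨e, he⟩ := hpow
        rw [he, pow_succ, pow_mul, hexp, one_pow, one_mul]
      · rintro ⟨_, m, hm, rfl⟩ -
        exact (hconj g y).1 (by rw [show g • U = (ω : Subgroup V) from hg]; exact hy) m hm
    have hPne : ∀ ω' : Ω, ω' ≠ ω → ∀ y ∈ (ω' : Subgroup V), P y = 1 := by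
      intro ω' hne' y hy
      obtain ⟨g', hg'⟩ := ω'.2
      let M'' := M.map (MulAut.conj g').toMonoidHom
      have hM''A : M'' ≤ A := by
        rintro _ ⟨m, hm, rfl⟩
        exact hA.conj_mem m (hMA hm) g'
      have hne'' : M' ≠ M'' := by
        intro h
        refine hne' (Subtype.ext ?_)
        rw [← hg, ← hg']
        ext z
        show z ∈ g' • U ↔ z ∈ g • U
        rw [hconj, hconj]
        constructor <;> intro hz m hm
        · obtain ⟨m', hm', e⟩ : g * m * g⁻¹ ∈ M'' := h ▸ ⟨m, hm, rfl⟩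
          rw [← e]; exact hz m' hm'
        · obtain ⟨m', hm', e⟩ : g' * m * g'⁻¹ ∈ M' := h.symm ▸ ⟨m, hm, rfl⟩
          rw [← e]; exact hz m' hm'
      have hlt : Nat.card M < Nat.card (M' ⊔ M'' : Subgroup S) := by
        rw [← hM'c]
        refine CfsgLib.Solvable.card_lt_of_lt (lt_of_le_of_ne le_sup_left fun h => hne'' ?_)
        refine (CfsgLib.Solvable.eq_of_le_of_card_le (h ▸ le_sup_right) ?_).symm
        rw [hM'c]
        exact (Nat.card_congr (Subgroup.equivMapOfInjective M _ (MulAut.conj g').injective).toEquiv).le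
      rw [← Subgroup.mem_bot, ← hbig _ (sup_le hM'A hM''A) hlt]
      intro l hl
      have hle : M' ⊔ M'' ≤ MulAction.stabilizer S (P y) := by
        refine sup_le (fun m hm => hfixP y m hm) ?_
        rintro _ ⟨m, hm, rfl⟩
        show (g' * m * g'⁻¹) • ∏ x : M', (x : S) • y = ∏ x : M', (x : S) • y
        rw [Finset.smul_prod']
        refine Finset.prod_congr rfl fun x _ => ?_
        rw [← mul_smul, hcomm _ (hA.conj_mem m (hMA hm) g') _ (hM'A x.2), mul_smul,
          (hconj g' y).1 (by rw [show g' • U = (ω' : Subgroup V) from hg']; exact hy) m hm]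
      exact hle hl
    have hPf : ∀ w : (∀ ω : Ω, (ω : Subgroup V)), P (f w) = w ω := fun w => by
      show P (∏ ω' : Ω, (w ω' : V)) = w ω
      rw [map_prod, Finset.prod_eq_single ω (fun ω' _ h => hPne ω' h _ (w ω').2) (by simp)]
      exact hPeq _ (w ω).2
    exact Subtype.ext (by rw [← hPf u, ← hPf u', huu])
  obtain ⟨r, hr, hUc⟩ := (Nat.dvd_prime_pow Nat.prime_two).1 (hV ▸ Subgroup.card_subgroup_dvd_card U)
  have hωc : ∀ ω : Ω, Nat.card (ω : Subgroup V) = 2 ^ r := by
    rintro ⟨_, g, rfl⟩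
    rw [← hUc]
    exact (Nat.card_congr (Subgroup.equivSMul g U).toEquiv).symm
  obtain ⟨t, ht⟩ : ∃ t, Nat.card Ω = t := ⟨_, rfl⟩
  have hrt : r * t ≤ n := by
    refine (Nat.pow_le_pow_iff_right (a := 2) (by norm_num)).1 ?_
    rw [← hV]
    refine le_trans (le_of_eq ?_) (Nat.card_le_card_of_injective f hfinj)
    rw [Nat.card_pi, Finset.prod_congr rfl fun ω _ => hωc ω, Finset.prod_const, Finset.card_univ,
      ← Nat.card_eq_fintype_card, ht, pow_mul]
  have hr2 : 2 ≤ r := by
    by_contra h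
    rcases (by omega : r = 0 ∨ r = 1) with rfl | rfl
    · exact hMU (Subgroup.eq_bot_of_card_eq _ (by simpa using hUc))
    · obtain ⟨x, hx, hx1⟩ := (Subgroup.bot_or_exists_ne_one U).resolve_left hMU
      refine hx1 ?_
      rw [← Subgroup.mem_bot, ← hfA]
      intro l hl
      have hmem : l • x ∈ U := smul_mem_fixS l (fun m hm => by
        rw [mul_assoc, hcomm m (hMA hm) l hl, inv_mul_cancel_left]; exact hm) hx
      rw [pow_one] at hUc
      haveI := Fintype.ofFinite U
      by_contra hne'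
      have h3 : 3 ≤ Nat.card U := by
        rw [Nat.card_eq_fintype_card]
        refine Fintype.two_lt_card_iff.2 ⟨1, ⟨x, hx⟩, ⟨l • x, hmem⟩, fun h => hx1 (congrArg Subtype.val h).symm,
          fun h => hx1 ((MulEquiv.map_eq_one_iff (l : MulAut V)).1 (congrArg Subtype.val h).symm), fun h => hne' (congrArg Subtype.val h).symm⟩
      omega
  have hspan : (⨆ ω : Ω, (ω : Subgroup V)) = ⊤ := by
    refine (hirr _ fun φ hφ u hu => ?_).resolve_left fun h => hMU (eq_bot_iff.2
      ((le_iSup (fun ω : Ω => (ω : Subgroup V)) ⟨U, MulAction.mem_orbit_self U⟩).trans h.le))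
    have hle : (⨆ ω : Ω, (ω : Subgroup V)) ≤ (⨆ ω : Ω, (ω : Subgroup V)).comap (φ.toMonoidHom) := by
      refine iSup_le fun ω y hy => ?_
      refine (le_iSup (fun ω : Ω => (ω : Subgroup V)) ((⟨φ, hφ⟩ : S) • ω)) ?_
      exact Subgroup.smul_mem_pointwise_smul y (⟨φ, hφ⟩ : S) _ hy
    exact hle hu
  have ht2 : 2 ≤ t := by
    by_contra h
    refine hUne (eq_top_iff.2 (hspan.ge.trans (iSup_le fun ω => ?_)))
    have : Subsingleton Ω := Finite.card_le_one_iff_subsingleton.1 (by omega)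
    rw [Subsingleton.elim ω ⟨U, MulAction.mem_orbit_self U⟩]
  let π : S →* Equiv.Perm Ω := MulAction.toPermHom S Ω
  have hπ : Nat.card π.range ≤ t.factorial := by
    rw [← ht, ← Nat.card_perm]; exact Subgroup.card_le_card_group _
  have hkω : ∀ (s : π.ker) (ω : Ω) (y : V), y ∈ (ω : Subgroup V) → (s : S) • y ∈ (ω : Subgroup V) := by
    intro s ω y hy
    have h1 : ((s : S) • ω : Ω) = ω := DFunLike.congr_fun s.2 ω
    exact (congrArg Subtype.val h1).le (Subgroup.smul_mem_pointwise_smul y (s : S) (ω : Subgroup V) hy)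
  let ρ : π.ker → ∀ ω : Ω, MulAut (ω : Subgroup V) := fun s ω =>
    { toFun := fun y => ⟨(s : S) • (y : V), hkω s ω y y.2⟩
      invFun := fun y => ⟨((s⁻¹ : π.ker) : S) • (y : V), hkω s⁻¹ ω y y.2⟩
      left_inv := fun y => Subtype.ext (inv_smul_smul (s : S) (y : V))
      right_inv := fun y => Subtype.ext (smul_inv_smul (s : S) (y : V))
      map_mul' := fun y z => Subtype.ext (smul_mul' _ _ _) }
  have hρ : Function.Injective ρ := by
    intro s s' h
    refine Subtype.ext (Subtype.ext (MulEquiv.ext fun x => ?_))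
    have hx : x ∈ (⨆ ω : Ω, (ω : Subgroup V)) := hspan.ge (Subgroup.mem_top x)
    induction hx using Subgroup.iSup_induction' with
    | hp ω y hy => exact congrArg Subtype.val (DFunLike.congr_fun (congrFun h ω) ⟨y, hy⟩)
    | h1 => rw [map_one, map_one]
    | hmul y z _ _ hy hz => rw [map_mul, map_mul, hy, hz]
  haveI : ∀ ω : Ω, Finite (MulAut (ω : Subgroup V)) := fun ω => finite_mulAut
  obtain ⟨ω₀⟩ : Nonempty Ω := ⟨⟨U, MulAction.mem_orbit_self U⟩⟩
  have hexpω : ∀ (ω : Ω) (y : (ω : Subgroup V)), y ^ 2 = 1 := fun ω y => Subtype.ext (by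
    rw [Subgroup.coe_pow, hexp]; rfl)
  -- all blocks carry copies of the same group
  have heω : ∀ ω : Ω, Nonempty ((ω : Subgroup V) ≃* (ω₀ : Subgroup V)) := by
    rintro ⟨_, g, rfl⟩
    obtain ⟨g₀, hg₀⟩ := ω₀.2
    exact ⟨(Subgroup.equivSMul g U).symm.trans ((Subgroup.equivSMul g₀ U).trans
      (MulEquiv.subgroupCongr hg₀))⟩
  let ρ' : π.ker →* (Ω → MulAut (ω₀ : Subgroup V)) :=
    MonoidHom.mk' (fun s ω => MulAut.congr (heω ω).some (ρ s ω)) fun s t => funext fun ω => by
      rw [Pi.mul_apply, ← map_mul]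
      exact congrArg _ (MulEquiv.ext fun y => Subtype.ext (mul_smul (s : S) (t : S) (y : V)))
  have hρ' : Function.Injective ρ' := fun s t h => hρ (funext fun ω => (MulAut.congr (heω ω).some).injective (congrFun h ω))
  have hk : KB π.ker (blkB r ^ t) := by
    have h0 : KB (⊤ : Subgroup (MulAut (ω₀ : Subgroup V))) (blkB r) := kb_general Nat.prime_two hr2 (hexpω ω₀) (hωc ω₀) ⊤
    have h := (KB.pi (ι := Ω) (h0.of_surjective (Subgroup.topEquiv (G := MulAut (ω₀ : Subgroup V))).toMonoidHom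
      Subgroup.topEquiv.surjective)).of_injective ρ' hρ'
    rwa [← Nat.card_eq_fintype_card, ht] at h
  refine (KB.ext π.rangeRestrict ?_ (KB.of_card hπ)).mono (blocks_arith hm hr2 ht2 (hn ▸ hrt))
  rw [MonoidHom.ker_rangeRestrict]
  exact hk

end CfsgLib.FitMod
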