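import Cfsg.Agent.FitMod.Main
import Mathlib.Algebra.CharP.Lemmas
import Mathlib.LinearAlgebra.Quotient.Basic

/-!
Linear groups in characteristic `p` without normal `p`-subgroups, modulo the Fitting subgroup.
-/

set_option autoImplicit false
set_option linter.style.haveILetI false
set_option linter.unusedSectionVars false

namespace CfsgLib.FitMod

open Module CfsgLib.SolvLinK

universe u v w

/-- A group embedded in a product. -/
theorem fb_of_embed {H A B : Type u} [Group H] [Finite H] [Group A] [Finite A] [Group B] [Finite B] {a b d : ℕ}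
    (ha : FB A a) (hb : FB B b) (hd : a - 1 + (b - 1) ≤ d - 1) (ι : H →* A × B) (hι : Function.Injective ι) :
    FB H d := by
  haveI : Group.IsNilpotent (Cfsg.fittingSubgroup A) := CfsgLib.Solvable.isNilpotent_fittingSubgroup
  haveI : Group.IsNilpotent (Cfsg.fittingSubgroup B) := CfsgLib.Solvable.isNilpotent_fittingSubgroup
  let ψ : H →* (A ⧸ Cfsg.fittingSubgroup A) × (B ⧸ Cfsg.fittingSubgroup B) :=
    ((QuotientGroup.mk' _).comp ((MonoidHom.fst A B).comp ι)).prod
      ((QuotientGroup.mk' _).comp ((MonoidHom.snd A B).comp ι))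
  refine fb_of_normal ψ.ker ?_ ?_
  · refine nilpotent_of_injective (G' := Cfsg.fittingSubgroup A × Cfsg.fittingSubgroup B)
      (MonoidHom.mk' (fun g : ψ.ker => (⟨(ι (g : H)).1, (QuotientGroup.eq_one_iff _).1 (congrArg Prod.fst g.2)⟩,
        ⟨(ι (g : H)).2, (QuotientGroup.eq_one_iff _).1 (congrArg Prod.snd g.2)⟩))
        fun g g' => Prod.ext (Subtype.ext (congrArg Prod.fst (map_mul ι (g : H) g') :))
          (Subtype.ext (congrArg Prod.snd (map_mul ι (g : H) g') :))) fun g g' e => Subtype.ext (hι ?_)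
    exact Prod.ext (congrArg Subtype.val (congrArg Prod.fst e)) (congrArg Subtype.val (congrArg Prod.snd e))
  · refine ((ha.prod hb).of_injective (QuotientGroup.kerLift ψ) (QuotientGroup.kerLift_injective ψ)).mono ?_
    rw [← pow_add]
    exact Nat.pow_le_pow_right (by norm_num) hd

variable {k : Type w} [Field k] [IsAlgClosed k]

/-- Modulo a unipotent normal subgroup. -/
theorem exists_unipotent_quot : ∀ (d : ℕ) (H : Type u) [Group H] [Finite H] (U : Type v) [AddCommGroup U]
    [Module k U] [FiniteDimensional k U] (σ : H →* Module.End k U), Group.IsSolvable H → finrank k U = d →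
    ∃ L : Subgroup H, ∃ _ : L.Normal, (∀ x ∈ L, IsNilpotent (σ x - 1)) ∧ FB (H ⧸ L) d := by
  intro d
  induction d using Nat.strong_induction_on with
  | _ d ih =>
  intro H _ _ U _ _ _ σ hsol hd
  haveI := hsol
  classical
  by_cases hirr : IsIrr σ
  · refine ⟨σ.toHomUnits.ker, inferInstance, fun x hx => ⟨1, ?_⟩, ?_⟩
    · rw [pow_one, show σ x = 1 from congrArg Units.val hx, sub_self]
    · have hcr : IsCR σ := fun U' hU' => (hirr.2 U' hU').elim
        (fun h => ⟨⊤, fun _ _ _ => Submodule.mem_top, h ▸ isCompl_bot_top⟩)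
        fun h => ⟨⊥, fun g x hx => by rw [Submodule.mem_bot] at hx ⊢; rw [hx, map_zero], h ▸ isCompl_top_bot⟩
      exact hd ▸ fb_image (cr_fit (k := k) (finrank k U + 1)) hsol σ hcr (Nat.lt_succ_self _)
  rcases Nat.eq_zero_or_pos d with rfl | hd1
  · haveI : Subsingleton U := Module.finrank_zero_iff.1 hd
    haveI : Subsingleton (H ⧸ (⊤ : Subgroup H)) := QuotientGroup.subsingleton_quotient_top
    exact ⟨⊤, inferInstance, fun x _ => ⟨1, LinearMap.ext fun u => Subsingleton.elim _ _⟩,
      fb_of_comm fun a b => Subsingleton.elim _ _⟩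
  have htop : (⊤ : Submodule k U) ≠ ⊥ := fun h => by
    have := finrank_top k U
    rw [h, finrank_bot] at this
    omega
  obtain ⟨U₁, hU₁, h1, h2⟩ : ∃ U₁, Invt σ U₁ ∧ U₁ ≠ ⊥ ∧ U₁ ≠ ⊤ := by
    by_contra hc
    push Not at hc
    exact hirr ⟨htop, fun U' hU' => or_iff_not_imp_left.2 (hc U' hU')⟩
  let σ₂ : H →* Module.End k (U ⧸ U₁) :=
    { toFun := fun g => U₁.mapQ U₁ (σ g) fun x hx => hU₁ g x hx
      map_one' := Submodule.linearMap_qext _ (LinearMap.ext fun x => by simp)
      map_mul' := fun g g' => Submodule.linearMap_qext _ (LinearMap.ext fun x => by simp) }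
  have ha : finrank k U₁ < d := hd ▸ Submodule.finrank_lt h2
  have hsum := Submodule.finrank_quotient_add_finrank U₁
  rw [hd] at hsum
  have hu1 : 1 ≤ finrank k U₁ := Submodule.one_le_finrank_iff.2 h1
  obtain ⟨L₁, hL₁n, hL₁, hF₁⟩ := ih _ ha H U₁ (restrictRep σ U₁ hU₁) hsol rfl
  obtain ⟨L₂, hL₂n, hL₂, hF₂⟩ := ih _ (show finrank k (U ⧸ U₁) < d by omega) H (U ⧸ U₁) σ₂ hsol rfl
  refine ⟨L₁ ⊓ L₂, inferInstance, fun x hx => ?_, ?_⟩
  · obtain ⟨a, ha⟩ := hL₁ x hx.1
    obtain ⟨b, hb⟩ := hL₂ x hx.2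
    refine ⟨a + b, LinearMap.ext fun u => ?_⟩
    rw [pow_add, Module.End.mul_apply, LinearMap.zero_apply]
    have hbk : ∀ (m : ℕ) (u : U), ((σ₂ x - 1) ^ m) (Submodule.Quotient.mk u) =
        Submodule.Quotient.mk (((σ x - 1) ^ m) u) := fun m => by
      induction m with
      | zero => intro u; rfl
      | succ m ih => intro u; rw [pow_succ', pow_succ', Module.End.mul_apply, Module.End.mul_apply, ih]; rfl
    have hmem : ((σ x - 1) ^ b) u ∈ U₁ := by
      rw [← Submodule.Quotient.mk_eq_zero, ← hbk, hb]; rfl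
    have hak : ∀ (m : ℕ) (y : U₁), (((restrictRep σ U₁ hU₁ x - 1) ^ m) y : U) = ((σ x - 1) ^ m) (y : U) := fun m => by
      induction m with
      | zero => intro y; rfl
      | succ m ih => intro y; rw [pow_succ', pow_succ', Module.End.mul_apply, Module.End.mul_apply, ← ih]; rfl
    rw [← hak a ⟨_, hmem⟩, ha]
    rfl
  · have hu2 : 1 ≤ finrank k (U ⧸ U₁) := by omega
    refine fb_of_embed hF₁ hF₂ (by omega)
      ((QuotientGroup.map (L₁ ⊓ L₂) L₁ (MonoidHom.id H) fun x hx => hx.1).prod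
        (QuotientGroup.map (L₁ ⊓ L₂) L₂ (MonoidHom.id H) fun x hx => hx.2)) ?_
    refine (injective_iff_map_eq_one _).2 fun y hy => ?_
    obtain ⟨x, rfl⟩ := QuotientGroup.mk'_surjective _ y
    exact (QuotientGroup.eq_one_iff x).2 ⟨(QuotientGroup.eq_one_iff x).1 (congrArg Prod.fst hy),
      (QuotientGroup.eq_one_iff x).1 (congrArg Prod.snd hy)⟩

/-- A linear group in characteristic `p` with trivial `p`-core. -/
theorem fb_modular {p : ℕ} [Fact p.Prime] [CharP k p] {H : Type u} [Group H] [Finite H] {U : Type v}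
    [AddCommGroup U] [Module k U] [FiniteDimensional k U] (σ : H →* Module.End k U) (hinj : Function.Injective σ)
    (hsol : Group.IsSolvable H) (hcore : Cfsg.pCore p H = ⊥) : FB H (finrank k U) := by
  obtain ⟨L, hL, hu, hF⟩ := exists_unipotent_quot _ H U σ hsol rfl
  have hLp : IsPGroup p L := fun x => by
    obtain ⟨m, hm⟩ := hu x x.2
    rcases subsingleton_or_nontrivial U with hU | hU
    · exact ⟨0, Subtype.ext (hinj (LinearMap.ext fun u => Subsingleton.elim _ _))⟩
    haveI : CharP (Module.End k U) p := charP_of_injective_algebraMap (algebraMap k (Module.End k U)).injective p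
    refine ⟨m, Subtype.ext (hinj ?_)⟩
    rw [Subgroup.coe_pow, map_pow, Subgroup.coe_one, map_one]
    have h1 : (σ (x : H) - 1) ^ p ^ m = 0 :=
      pow_eq_zero_of_le (Nat.lt_pow_self (Fact.out : p.Prime).one_lt).le hm
    rw [sub_pow_char_pow_of_commute _ _ (Commute.one_right _), one_pow, sub_eq_zero] at h1
    exact h1
  obtain rfl : L = ⊥ := eq_bot_iff.2 (hcore ▸ CfsgLib.Solvable.le_pCore p hL hLp)
  refine hF.of_surjective (QuotientGroup.map (Cfsg.fittingSubgroup (H ⧸ (⊥ : Subgroup H))) (Cfsg.fittingSubgroup H)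
    QuotientGroup.quotientBot.toMonoidHom ?_) ?_
  · intro x hx
    exact CfsgLib.Comp.map_fitting_le QuotientGroup.quotientBot ⟨x, hx, rfl⟩
  · intro y
    obtain ⟨x, rfl⟩ := QuotientGroup.mk'_surjective _ y
    exact ⟨((x : H ⧸ (⊥ : Subgroup H)) : _ ⧸ Cfsg.fittingSubgroup (H ⧸ (⊥ : Subgroup H))), rfl⟩

end CfsgLib.FitMod
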