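import Cfsg.Agent.FitMod.NilKGV
import Cfsg.Agent.FitMod.Modular
import Cfsg.Agent.Blocks.PSolvablePrincipal
import Cfsg.Agent.Solvable.PGroupBasic
import Cfsg.Agent.Solvable.CoprimeAct
import Cfsg.Agent.OneClass.Basic
import Mathlib.FieldTheory.IsAlgClosed.AlgebraicClosure
import Mathlib.LinearAlgebra.Matrix.ToLin
import Mathlib.Algebra.Field.ZMod

/-!
The class number of a solvable group with trivial `p'`-core.
-/

set_option autoImplicit false
set_option linter.style.haveILetI false
set_option linter.unusedSectionVars false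

open scoped commutatorElement

namespace CfsgLib.FitMod

open Module

universe u

variable {p : ℕ} [hp : Fact p.Prime]

/-- A faithful module over the prime field, extended to the algebraic closure. -/
theorem fb_of_module {H : Type u} [Group H] [Finite H] {W : Type u} [AddCommGroup W] [Module (ZMod p) W]
    [Finite W] (ρ : H →* Module.End (ZMod p) W) (hinj : Function.Injective ρ) (hsol : Group.IsSolvable H)
    (hcore : Cfsg.pCore p H = ⊥) : FB H (finrank (ZMod p) W) := by
  haveI : Module.Finite (ZMod p) W := Module.Finite.of_finite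
  let b := Module.finBasis (ZMod p) W
  let k := AlgebraicClosure (ZMod p)
  haveI : CharP k p := charP_of_injective_algebraMap (algebraMap (ZMod p) k).injective p
  let σ : H →* Module.End k (Fin (finrank (ZMod p) W) → k) :=
    (Matrix.toLinAlgEquiv' (R := k) (n := Fin (finrank (ZMod p) W))).toAlgHom.toMonoidHom.comp
      ((algebraMap (ZMod p) k).mapMatrix.toMonoidHom.comp
        ((LinearMap.toMatrixAlgEquiv b).toAlgHom.toMonoidHom.comp ρ))
  have hσ : Function.Injective σ := fun x y h => hinj <| (LinearMap.toMatrixAlgEquiv b).injective <|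
    Matrix.map_injective (algebraMap (ZMod p) k).injective
      ((Matrix.toLinAlgEquiv' (R := k) (n := Fin (finrank (ZMod p) W))).injective h)
  have h := fb_modular (k := k) (p := p) σ hσ hsol hcore
  rwa [Module.finrank_fin_fun] at h

theorem not_dvd_fitting {H : Type u} [Group H] [Finite H] (hcore : Cfsg.pCore p H = ⊥) :
    ¬ p ∣ Nat.card (Cfsg.fittingSubgroup H) := by
  intro h
  haveI : Group.IsNilpotent (Cfsg.fittingSubgroup H) := CfsgLib.Solvable.isNilpotent_fittingSubgroup
  obtain ⟨P⟩ : Nonempty (Sylow p (Cfsg.fittingSubgroup H)) := inferInstance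
  haveI : (P : Subgroup (Cfsg.fittingSubgroup H)).Normal := inferInstance
  haveI := Sylow.characteristic_of_normal P inferInstance
  have hle : (P : Subgroup (Cfsg.fittingSubgroup H)).map (Cfsg.fittingSubgroup H).subtype ≤ Cfsg.pCore p H :=
    CfsgLib.Solvable.le_pCore p ConjAct.normal_of_characteristic_of_normal (P.2.map _)
  rw [hcore, le_bot_iff] at hle
  have hP : (P : Subgroup (Cfsg.fittingSubgroup H)) = ⊥ :=
    Subgroup.map_injective (Subgroup.subtype_injective _) (hle.trans (Subgroup.map_bot _).symm)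
  have h2 := P.dvd_card_of_dvd_card h
  rw [hP, Subgroup.card_bot] at h2
  exact hp.out.ne_one (Nat.dvd_one.1 h2)

/-- An elementary abelian self-centralising normal subgroup. -/
theorem classes_le_of_self {Y : Type u} [Group Y] [Finite Y] (hsol : Group.IsSolvable Y) (V : Subgroup Y)
    [hV : V.Normal] (hc : ∀ a ∈ V, ∀ b ∈ V, a * b = b * a) (hexp : ∀ v ∈ V, v ^ p = 1)
    (hself : Subgroup.centralizer (V : Set Y) = V) (hcore : Cfsg.pCore p (Y ⧸ V) = ⊥) {a : ℕ}
    (ha : Nat.card V ≤ p ^ a) : Nat.card (ConjClasses Y) ≤ Nat.card V * 3 ^ (a - 1) := by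
  haveI := hsol
  letI : CommGroup V := { (inferInstance : Group V) with mul_comm := fun a b => Subtype.ext (hc a a.2 b b.2) }
  haveI : Module (ZMod p) (Additive V) := AddCommGroup.zmodModule fun x => by
    refine Additive.toMul.injective (Subtype.ext ?_)
    rw [toMul_nsmul, Subgroup.coe_pow, toMul_zero, Subgroup.coe_one]
    exact hexp _ (Additive.toMul x).2
  let f : Y →* Module.End (ZMod p) (Additive V) :=
    { toFun := fun h => (MonoidHom.toAdditive (MulAut.conjNormal h : MulAut V).toMonoidHom).toZModLinearMap p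
      map_one' := LinearMap.ext fun x => by
        show Additive.ofMul ((MulAut.conjNormal (1 : Y) : MulAut V) (Additive.toMul x)) = x
        rw [map_one]; rfl
      map_mul' := fun h h' => LinearMap.ext fun x => by
        show Additive.ofMul ((MulAut.conjNormal (h * h') : MulAut V) (Additive.toMul x)) =
          Additive.ofMul ((MulAut.conjNormal h : MulAut V) ((MulAut.conjNormal h' : MulAut V) (Additive.toMul x)))
        rw [map_mul]; rfl }
  have hfker : f.ker = V := by
    ext y
    refine ⟨fun hy => ?_, fun hy => ?_⟩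
    · rw [← hself]
      intro u hu
      have h1 : (MulAut.conjNormal y : MulAut V) ⟨u, hu⟩ = ⟨u, hu⟩ :=
        Additive.ofMul.injective (LinearMap.congr_fun hy (Additive.ofMul ⟨u, hu⟩))
      have h2 := congrArg Subtype.val h1
      rw [MulAut.conjNormal_apply] at h2
      exact (mul_inv_eq_iff_eq_mul.1 h2).symm
    · refine MonoidHom.mem_ker.2 (LinearMap.ext fun x => Additive.toMul.injective (Subtype.ext ?_))
      show ((MulAut.conjNormal y : MulAut V) (Additive.toMul x) : Y) = _
      rw [MulAut.conjNormal_apply, hc y hy _ (Additive.toMul x).2, mul_inv_cancel_right]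
      rfl
  let ρ : Y ⧸ V →* Module.End (ZMod p) (Additive V) := QuotientGroup.lift V f hfker.ge
  have hρ : Function.Injective ρ := (injective_iff_map_eq_one ρ).2 fun y hy => by
    obtain ⟨x, rfl⟩ := QuotientGroup.mk'_surjective V y
    exact (QuotientGroup.eq_one_iff x).2 (hfker.le hy)
  haveI : Group.IsSolvable (Y ⧸ V) := Group.isSolvable_of_surjective (QuotientGroup.mk'_surjective V)
  have hFB := fb_of_module (p := p) ρ hρ inferInstance hcore
  have he : finrank (ZMod p) (Additive V) ≤ a := by
    haveI : Module.Finite (ZMod p) (Additive V) := Module.Finite.of_finite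
    have h := Module.natCard_eq_pow_finrank (K := ZMod p) (V := Additive V)
    rw [Nat.card_zmod] at h
    refine (Nat.pow_le_pow_iff_right hp.out.one_lt).1 ?_
    rw [← h]
    exact ha
  -- the nilpotent layer
  let F := Cfsg.fittingSubgroup (Y ⧸ V)
  let Y₂ : Subgroup Y := F.comap (QuotientGroup.mk' V)
  haveI : Y₂.Normal := Subgroup.Normal.comap inferInstance _
  have hVY : V ≤ Y₂ := fun x hx => by
    show (x : Y ⧸ V) ∈ F
    rw [(QuotientGroup.eq_one_iff x).2 hx]
    exact F.one_mem
  let g : Y₂ →* F := ((QuotientGroup.mk' V).comp Y₂.subtype).codRestrict F fun x => x.2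
  have hgs : Function.Surjective g := fun y => by
    obtain ⟨x, hx⟩ := QuotientGroup.mk'_surjective V (y : Y ⧸ V)
    exact ⟨⟨x, show QuotientGroup.mk' V x ∈ F from hx.symm ▸ y.2⟩, Subtype.ext hx⟩
  have hgk : g.ker = V.subgroupOf Y₂ := by
    ext x
    exact ⟨fun h => (QuotientGroup.eq_one_iff (x : Y)).1 (congrArg Subtype.val h),
      fun h => Subtype.ext ((QuotientGroup.eq_one_iff (x : Y)).2 h)⟩
  haveI : (V.subgroupOf Y₂).Normal := Subgroup.normal_subgroupOf
  haveI : Group.IsNilpotent F := CfsgLib.Solvable.isNilpotent_fittingSubgroup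
  have h1 : Nat.card (ConjClasses Y₂) ≤ Nat.card V := by
    refine (classes_le_card_of_nilpotent (p := p) (V.subgroupOf Y₂)
      (fun a ha b hb => Subtype.ext (hc a ha b hb)) (fun v hv => Subtype.ext (by
        rw [Subgroup.coe_pow, hexp v hv, Subgroup.coe_one])) ?_ ?_ ?_).trans
      (le_of_eq (Nat.card_congr (Subgroup.subgroupOfEquivOfLe hVY).toEquiv))
    · rw [← hgk, Subgroup.index_ker, MonoidHom.range_eq_top.2 hgs, Subgroup.card_top]
      exact not_dvd_fitting hcore
    · refine le_antisymm (fun x hx => ?_) fun x hx u hu => Subtype.ext ?_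
      · show (x : Y) ∈ V
        rw [← hself]
        intro u hu
        exact congrArg Subtype.val (hx ⟨u, hVY hu⟩ (show (⟨u, hVY hu⟩ : Y₂) ∈ V.subgroupOf Y₂ from hu))
      · exact hc u hu x hx
    · exact nilpotent_of_injective ((QuotientGroup.kerLift g).comp
        (QuotientGroup.quotientMulEquivOfEq hgk.symm).toMonoidHom)
        ((QuotientGroup.kerLift_injective g).comp (QuotientGroup.quotientMulEquivOfEq hgk.symm).injective)
  have h2 : Nat.card (ConjClasses (Y ⧸ Y₂)) ≤ 3 ^ (a - 1) := by
    have hk : Y₂ = ((QuotientGroup.mk' F).comp (QuotientGroup.mk' V)).ker := by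
      rw [← MonoidHom.comap_ker, QuotientGroup.ker_mk']
    let e : Y ⧸ Y₂ →* (Y ⧸ V) ⧸ F := QuotientGroup.lift Y₂ ((QuotientGroup.mk' F).comp (QuotientGroup.mk' V)) hk.le
    have hei : Function.Injective e := (injective_iff_map_eq_one e).2 fun y hy => by
      obtain ⟨x, rfl⟩ := QuotientGroup.mk'_surjective Y₂ y
      exact (QuotientGroup.eq_one_iff x).2 (hk.ge hy)
    exact (hFB.of_injective e hei).k.trans (Nat.pow_le_pow_right (by norm_num) (by omega))
  exact (Cfsg.Agent.S4201.result Y₂).trans (Nat.mul_le_mul h1 h2)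

/-- Solvable groups with trivial `p'`-core. -/
theorem classes_le_of_core {X : Type u} [Group X] [Finite X] (hsol : Group.IsSolvable X)
    (h0 : Cfsg.pPrimeCore p X = ⊥) :
    Nat.card (ConjClasses X) ≤ 3 ^ ((Nat.card X).factorization p - 1) * p ^ (Nat.card X).factorization p := by
  haveI := hsol
  haveI := Fintype.ofFinite X
  have hsc := CfsgLib.Block.selfCent_of_solvable (p := p) h0
  let U := Cfsg.pCore p X
  haveI hUn : U.Normal := CfsgLib.Solvable.pCore_normal p
  have hUp : IsPGroup p U := CfsgLib.Solvable.isPGroup_pCore p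
  obtain ⟨a, ha⟩ := IsPGroup.iff_card.1 hUp
  have had : a ≤ (Nat.card X).factorization p :=
    (hp.out.pow_dvd_iff_le_factorization Nat.card_pos.ne').1 (ha ▸ U.card_subgroup_dvd_card)
  let Φ : Subgroup X := (frattini U).map U.subtype
  haveI : (frattini U).Characteristic := frattini_characteristic
  haveI hΦn : Φ.Normal := ConjAct.normal_of_characteristic_of_normal
  have hΦU : Φ ≤ U := Subgroup.map_subtype_le _
  let V : Subgroup (X ⧸ Φ) := U.map (QuotientGroup.mk' Φ)
  haveI hVn : V.Normal := hUn.map _ (QuotientGroup.mk'_surjective Φ)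
  obtain ⟨hcm, hpw⟩ := CfsgLib.PGroupBasic.commutator_pow_le_frattini hUp
  have hc : ∀ x ∈ V, ∀ y ∈ V, x * y = y * x := by
    rintro _ ⟨x, hx, rfl⟩ _ ⟨y, hy, rfl⟩
    rw [← commutatorElement_eq_one_iff_mul_comm, ← map_commutatorElement]
    refine (QuotientGroup.eq_one_iff _).2 ⟨⁅(⟨x, hx⟩ : U), (⟨y, hy⟩ : U)⁆, hcm ?_, rfl⟩
    rw [commutator_def]
    exact Subgroup.commutator_mem_commutator (Subgroup.mem_top _) (Subgroup.mem_top _)
  have hexp : ∀ v ∈ V, v ^ p = 1 := by
    rintro _ ⟨x, hx, rfl⟩
    rw [← map_pow]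
    exact (QuotientGroup.eq_one_iff _).2 ⟨⟨x, hx⟩ ^ p, hpw _, by simp⟩
  have hcomap : V.comap (QuotientGroup.mk' Φ) = U := by
    rw [Subgroup.comap_map_eq, QuotientGroup.ker_mk', sup_eq_left.2 hΦU]
  have hself : Subgroup.centralizer (V : Set (X ⧸ Φ)) = V := by
    refine le_antisymm ?_ fun x hx u hu => hc u hu x hx
    have hC : (Subgroup.centralizer (V : Set (X ⧸ Φ))).comap (QuotientGroup.mk' Φ) ≤ U := by
      set C := (Subgroup.centralizer (V : Set (X ⧸ Φ))).comap (QuotientGroup.mk' Φ)
      haveI : C.Normal := Subgroup.Normal.comap inferInstance _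
      refine CfsgLib.Solvable.le_pCore p inferInstance (IsPGroup.iff_card.2 ⟨_, Nat.eq_prime_pow_of_unique_prime_dvd
        Nat.card_pos.ne' fun {q} hq hqd => ?_⟩)
      by_contra hqp
      haveI := Fact.mk hq
      obtain ⟨c, hcq⟩ := exists_prime_orderOf_dvd_card' (G := C) q hqd
      let A : Subgroup X := Subgroup.zpowers (c : X)
      have hAq : Nat.card A = q := by rw [Nat.card_zpowers, Subgroup.orderOf_coe, hcq]
      have hqp' : q.Coprime p := (Nat.coprime_primes hq hp.out).2 hqp
      have htriv : ∀ x ∈ A, ∀ k ∈ U, x * k * x⁻¹ * k⁻¹ ∈ Φ := by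
        intro x hx k hk
        have hxC : x ∈ C := (Subgroup.zpowers_le.2 c.2) hx
        refine (QuotientGroup.eq_one_iff _).1 ?_
        show QuotientGroup.mk' Φ _ = 1
        rw [map_mul, map_mul, map_mul, map_inv, map_inv,
          ← hxC _ ⟨k, hk, rfl⟩, mul_inv_cancel_right, mul_inv_cancel]
      have hAU : A ≤ Subgroup.centralizer (U : Set X) :=
        CfsgLib.CoprimeAct.trivial_on_frattini_quotient (fun x _ => (Subgroup.normalizer_eq_top (H := U)).ge (Subgroup.mem_top x))
          (Nat.Coprime.coprime_dvd_right ((frattini U).card_subgroup_dvd_card.trans (dvd_of_eq ha))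
            (hAq ▸ hqp'.pow_right a)) htriv
      have hcU : (c : X) ∈ U := hsc (hAU (Subgroup.mem_zpowers _))
      have hd : q ∣ p ^ a := by
        rw [← ha, ← hcq]
        have := orderOf_dvd_natCard (⟨(c : X), hcU⟩ : U)
        rwa [Subgroup.orderOf_mk, Subgroup.orderOf_coe] at this
      exact hqp ((Nat.prime_dvd_prime_iff_eq hq hp.out).1 (hq.dvd_of_dvd_pow hd))
    intro y hy
    obtain ⟨x, rfl⟩ := QuotientGroup.mk'_surjective Φ y
    exact ⟨x, hC hy, rfl⟩
  have hcore : Cfsg.pCore p ((X ⧸ Φ) ⧸ V) = ⊥ := by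
    let g : X →* (X ⧸ Φ) ⧸ V := (QuotientGroup.mk' V).comp (QuotientGroup.mk' Φ)
    have hg : Function.Surjective g := (QuotientGroup.mk'_surjective V).comp (QuotientGroup.mk'_surjective Φ)
    have hgk : g.ker = U := by rw [← MonoidHom.comap_ker, QuotientGroup.ker_mk', hcomap]
    have hP : IsPGroup p ((Cfsg.pCore p ((X ⧸ Φ) ⧸ V)).comap g) :=
      (CfsgLib.Solvable.isPGroup_pCore p).comap_of_ker_isPGroup g (by rw [hgk]; exact hUp)
    have hle : (Cfsg.pCore p ((X ⧸ Φ) ⧸ V)).comap g ≤ U :=
      CfsgLib.Solvable.le_pCore p ((CfsgLib.Solvable.pCore_normal p).comap g) hP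
    rw [← Subgroup.map_comap_eq_self_of_surjective hg (Cfsg.pCore p ((X ⧸ Φ) ⧸ V)), Subgroup.map_eq_bot_iff, hgk]
    exact hle
  haveI : Group.IsSolvable (X ⧸ Φ) := Group.isSolvable_of_surjective (QuotientGroup.mk'_surjective Φ)
  have hcardV : Nat.card Φ * Nat.card V = p ^ a := by
    have h : Nat.card (U ⧸ Φ.subgroupOf U) = Nat.card V := by
      show Φ.relIndex U = Nat.card (U.map (QuotientGroup.mk' Φ))
      rw [← Subgroup.relIndex_bot_left (U.map (QuotientGroup.mk' Φ)), ← Subgroup.relIndex_comap,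
        MonoidHom.comap_bot, QuotientGroup.ker_mk']
    rw [← ha, Subgroup.card_eq_card_quotient_mul_card_subgroup (Φ.subgroupOf U), h,
      Nat.card_congr (Subgroup.subgroupOfEquivOfLe hΦU).toEquiv, mul_comm]
  have hVa : Nat.card V ≤ p ^ a := hcardV ▸ Nat.le_mul_of_pos_left _ Nat.card_pos
  have hY := classes_le_of_self (p := p) inferInstance V hc hexp hself hcore hVa
  refine (Cfsg.Agent.S4201.result Φ).trans ((Nat.mul_le_mul k_le_card hY).trans ?_)
  rw [← mul_assoc, hcardV, mul_comm]
  exact Nat.mul_le_mul (Nat.pow_le_pow_right (by norm_num) (by omega)) (Nat.pow_le_pow_right hp.out.pos had)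

end CfsgLib.FitMod
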