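import Cfsg.Agent.S4201
import Mathlib.GroupTheory.GroupAction.CardCommute
import Mathlib.GroupTheory.Index
import Mathlib.GroupTheory.QuotientGroup.Basic
import Mathlib.GroupTheory.SpecificGroups.Cyclic
import Mathlib.Data.Fintype.Option
import Mathlib.Algebra.BigOperators.GroupWithZero.Action
import Mathlib.Tactic.Linarith
import Mathlib.Tactic.Ring
import Mathlib.Tactic.NormNum

/-!
Class numbers of all subgroups of a finite group.
-/

set_option autoImplicit false
set_option linter.style.haveILetI false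
set_option linter.unusedSectionVars false

namespace CfsgLib.FitMod

universe u v

/-- Every subgroup has at most `B` classes. -/
def KB (G : Type*) [Group G] (B : ℕ) : Prop := ∀ H : Subgroup G, Nat.card (ConjClasses H) ≤ B

variable {G : Type u} [Group G] [Finite G]

theorem k_le_of_surjective {G' : Type v} [Group G'] (f : G →* G') (hf : Function.Surjective f) :
    Nat.card (ConjClasses G') ≤ Nat.card (ConjClasses G) :=
  Nat.card_le_card_of_surjective (ConjClasses.map f) (ConjClasses.map_surjective hf)

theorem k_le_card : Nat.card (ConjClasses G) ≤ Nat.card G :=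
  Nat.card_le_card_of_surjective _ ConjClasses.mk_surjective

theorem KB.mono {B B' : ℕ} (h : KB G B) (hB : B ≤ B') : KB G B' := fun H => (h H).trans hB

theorem KB.k {B : ℕ} (h : KB G B) : Nat.card (ConjClasses G) ≤ B :=
  (k_le_of_surjective (Subgroup.topEquiv : (⊤ : Subgroup G) ≃* G).toMonoidHom
    Subgroup.topEquiv.surjective).trans (h ⊤)

theorem KB.of_card {B : ℕ} (h : Nat.card G ≤ B) : KB G B := fun H =>
  k_le_card.trans ((Subgroup.card_le_card_group H).trans h)

theorem KB.of_injective {G' : Type v} [Group G'] [Finite G'] {B : ℕ} (h : KB G' B) (f : G →* G')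
    (hf : Function.Injective f) : KB G B := fun H =>
  (k_le_of_surjective (H.equivMapOfInjective f hf).symm.toMonoidHom
    (H.equivMapOfInjective f hf).symm.surjective).trans (h (H.map f))

theorem KB.of_surjective {G' : Type v} [Group G'] {B : ℕ} (h : KB G B) (f : G →* G')
    (hf : Function.Surjective f) : KB G' B := fun H => by
  refine (k_le_of_surjective (f.subgroupComap H) ?_).trans (h (H.comap f))
  intro y
  obtain ⟨x, hx⟩ := hf y
  exact ⟨⟨x, Subgroup.mem_comap.2 (hx.symm ▸ y.2)⟩, Subtype.ext hx⟩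

/-- An image of a group whose kernel contains that of another map. -/
theorem KB.image {A : Type v} [Group A] [Finite A] {P : Type*} [Group P] [Finite P] {X : Type*} [Group X]
    {B : ℕ} (h : KB P B) (ψ : A →* P) (π : A →* X) (hker : ψ.ker ≤ π.ker) : KB π.range B := by
  have hle : ψ.rangeRestrict.ker ≤ π.rangeRestrict.ker := by
    rw [MonoidHom.ker_rangeRestrict, MonoidHom.ker_rangeRestrict]; exact hker
  refine (h.of_injective ψ.range.subtype ψ.range.subtype_injective).of_surjective
    (ψ.rangeRestrict.liftOfSurjective ψ.rangeRestrict_surjective ⟨π.rangeRestrict, hle⟩) fun y => ?_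
  obtain ⟨a, rfl⟩ := π.rangeRestrict_surjective y
  exact ⟨ψ.rangeRestrict a, ψ.rangeRestrict.liftOfRightInverse_comp_apply _ _ ⟨π.rangeRestrict, hle⟩ a⟩

theorem KB.ext {Q : Type v} [Group Q] [Finite Q] {a b : ℕ} (f : G →* Q) (ha : KB f.ker a) (hb : KB Q b) :
    KB G (a * b) := fun H => by
  let g : H →* Q := f.comp H.subtype
  refine (Cfsg.Agent.S4201.result g.ker).trans (Nat.mul_le_mul ?_ ?_)
  · refine (ha.of_injective (G := g.ker)
      ((H.subtype.comp g.ker.subtype).codRestrict f.ker fun x => x.2) ?_).k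
    exact fun x y e => Subtype.ext (Subtype.ext (congrArg Subtype.val e :))
  · exact (hb.of_injective (QuotientGroup.kerLift g) (QuotientGroup.kerLift_injective g)).k

theorem KB.prod {G' : Type v} [Group G'] [Finite G'] {a b : ℕ} (ha : KB G a) (hb : KB G' b) :
    KB (G × G') (a * b) := by
  refine KB.ext (MonoidHom.snd G G') ?_ hb
  refine ha.of_injective ((MonoidHom.fst G G').comp (MonoidHom.snd G G').ker.subtype) fun x y e => ?_
  exact Subtype.ext (Prod.ext e ((MonoidHom.mem_ker.1 x.2).trans (MonoidHom.mem_ker.1 y.2).symm))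

theorem KB.pi {ι : Type v} [Fintype ι] {K : Type u} [Group K] [Finite K] {a : ℕ} (h : KB K a) :
    KB (ι → K) (a ^ Fintype.card ι) := by
  classical
  suffices hs : ∀ s : Finset ι, KB ({x // x ∈ s} → K) (a ^ s.card) by
    refine (hs Finset.univ).of_surjective
      (⟨⟨fun f i => f ⟨i, Finset.mem_univ i⟩, rfl⟩, fun _ _ => rfl⟩ : ({x // x ∈ (Finset.univ : Finset ι)} → K) →* (ι → K))
      fun f => ⟨fun i => f i, rfl⟩
  intro s
  induction s using Finset.induction with
  | empty =>
    refine KB.of_card ?_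
    haveI : IsEmpty {x // x ∈ (∅ : Finset ι)} := ⟨fun i => Finset.notMem_empty _ i.2⟩
    rw [Nat.card_unique, Finset.card_empty, pow_zero]
  | @insert i s hi ih =>
    rw [Finset.card_insert_of_notMem hi, pow_succ]
    refine (KB.prod ih h).of_injective
      (⟨⟨fun f => (fun j => f ⟨j, Finset.mem_insert_of_mem j.2⟩, f ⟨i, Finset.mem_insert_self i s⟩), rfl⟩,
        fun _ _ => rfl⟩ : ({x // x ∈ insert i s} → K) →* (({x // x ∈ s} → K) × K)) fun f g e => ?_
    funext ⟨j, hj⟩
    rcases Finset.mem_insert.1 hj with rfl | hj'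
    · exact congrArg Prod.snd e
    · exact congrFun (congrArg Prod.fst e) ⟨j, hj'⟩

/-- The class equation as a sum of centralisers. -/
theorem sum_centralizer [Fintype G] :
    ∑ g : G, Nat.card (Subgroup.centralizer ({g} : Set G)) = Nat.card (ConjClasses G) * Nat.card G := by
  rw [← card_comm_eq_card_conjClasses_mul_card]
  rw [← Nat.card_sigma]
  exact Nat.card_congr
    { toFun := fun x => ⟨(x.1, x.2), (Subgroup.mem_centralizer_singleton_iff.1 x.2.2).symm⟩
      invFun := fun y => ⟨y.1.1, ⟨y.1.2, Subgroup.mem_centralizer_singleton_iff.2 y.2.symm⟩⟩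
      left_inv := fun _ => rfl
      right_inv := fun _ => rfl }

/-- All but `z` elements have centralisers of order at most `M`. -/
theorem k_le_of_bad (bad : Set G) {z M : ℕ} (hz1 : 1 ≤ z) (hM : 1 ≤ M) (hb : bad.ncard ≤ z)
    (hgood : ∀ g, g ∉ bad → Nat.card (Subgroup.centralizer ({g} : Set G)) ≤ M) :
    Nat.card (ConjClasses G) ≤ z + M - 1 := by
  classical
  haveI := Fintype.ofFinite G
  obtain ⟨h, hh⟩ : ∃ h, Nat.card G = h := ⟨_, rfl⟩
  obtain ⟨b, hbb⟩ : ∃ b, (Finset.univ.filter fun g : G => g ∈ bad).card = b := ⟨_, rfl⟩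
  have hbz : b ≤ z := by
    rw [← hbb, ← Set.ncard_coe_finset]; simpa using hb
  have hsum := sum_centralizer (G := G)
  rw [← Finset.sum_filter_add_sum_filter_not Finset.univ (fun g => g ∈ bad), hh] at hsum
  have h1 : ∑ g ∈ Finset.univ.filter (fun g : G => g ∈ bad), Nat.card (Subgroup.centralizer ({g} : Set G)) ≤ b * h := by
    rw [← hbb]; exact Finset.sum_le_card_nsmul _ _ _ fun g _ => hh ▸ Subgroup.card_le_card_group _
  have h2 : ∑ g ∈ Finset.univ.filter (fun g : G => g ∉ bad), Nat.card (Subgroup.centralizer ({g} : Set G)) ≤ (h - b) * M := by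
    refine (Finset.sum_le_card_nsmul _ _ _ fun g hg => hgood g (Finset.mem_filter.1 hg).2).trans ?_
    refine le_of_eq ?_
    rw [smul_eq_mul, Finset.filter_not, Finset.card_sdiff_of_subset (Finset.filter_subset _ _), hbb,
      Finset.card_univ, ← Nat.card_eq_fintype_card, hh]
  have hbh : b ≤ h := by
    rw [← hbb, ← hh, Nat.card_eq_fintype_card, ← Finset.card_univ]; exact Finset.card_le_card (Finset.filter_subset _ _)
  have hpos : 1 ≤ h := hh ▸ Nat.card_pos
  obtain ⟨r, hr⟩ : ∃ r, h = b + r := ⟨h - b, by omega⟩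
  rw [hr, Nat.add_sub_cancel_left] at h2
  refine Nat.le_sub_one_of_lt (Nat.lt_of_mul_lt_mul_right (a := h) ?_)
  rcases Nat.eq_zero_or_pos b with rfl | hb0
  · nlinarith
  · nlinarith

/-- The five eighths bound. -/
theorem five_eighths (hne : ¬ ∀ a b : G, a * b = b * a) : 8 * Nat.card (ConjClasses G) ≤ 5 * Nat.card G := by
  classical
  haveI := Fintype.ofFinite G
  obtain ⟨h, hh⟩ : ∃ h, Nat.card G = h := ⟨_, rfl⟩
  obtain ⟨b, hbb⟩ : ∃ b, (Finset.univ.filter fun g : G => g ∈ Subgroup.center G).card = b := ⟨_, rfl⟩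
  have hZ : Nat.card (Subgroup.center G) = b := by
    rw [← hbb, ← Fintype.card_subtype, ← Nat.card_eq_fintype_card]
  have h4 : 4 * b ≤ h := by
    have hidx : 4 ≤ (Subgroup.center G).index := by
      by_contra hc
      refine hne ?_
      haveI : IsCyclic (G ⧸ Subgroup.center G) := by
        have h0 : (Subgroup.center G).index ≠ 0 := Subgroup.index_ne_zero_of_finite
        have hq : Nat.card (G ⧸ Subgroup.center G) = (Subgroup.center G).index := rfl
        rcases (by omega : (Subgroup.center G).index = 1 ∨ (Subgroup.center G).index = 2 ∨ (Subgroup.center G).index = 3) with h' | h' | h'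
        · haveI := (Nat.card_eq_one_iff_unique.1 (hq.trans h')).1
          infer_instance
        · haveI : Fact (Nat.Prime 2) := ⟨Nat.prime_two⟩
          exact isCyclic_of_prime_card (hq.trans h')
        · haveI : Fact (Nat.Prime 3) := ⟨Nat.prime_three⟩
          exact isCyclic_of_prime_card (hq.trans h')
      exact (isMulCommutative_of_isCyclic_quotient_center_self G).is_comm.comm
    rw [← hh, ← hZ, ← (Subgroup.center G).card_mul_index]
    rw [mul_comm 4]
    exact Nat.mul_le_mul_left _ hidx
  have hsum := sum_centralizer (G := G)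
  rw [← Finset.sum_filter_add_sum_filter_not Finset.univ (fun g => g ∈ Subgroup.center G), hh] at hsum
  have h1 : ∑ g ∈ Finset.univ.filter (fun g : G => g ∈ Subgroup.center G), Nat.card (Subgroup.centralizer ({g} : Set G)) ≤ b * h := by
    rw [← hbb]; exact Finset.sum_le_card_nsmul _ _ _ fun g _ => hh ▸ Subgroup.card_le_card_group _
  have h2 : 2 * ∑ g ∈ Finset.univ.filter (fun g : G => g ∉ Subgroup.center G), Nat.card (Subgroup.centralizer ({g} : Set G)) ≤ (h - b) * h := by
    rw [Finset.mul_sum]
    refine (Finset.sum_le_card_nsmul _ _ h fun g hg => ?_).trans (le_of_eq ?_)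
    · have hne' : Subgroup.centralizer ({g} : Set G) ≠ ⊤ := fun ht => (Finset.mem_filter.1 hg).2
        (Subgroup.mem_center_iff.2 fun x => Subgroup.mem_centralizer_singleton_iff.1 (ht.ge (Subgroup.mem_top x)))
      have h2i : 2 ≤ (Subgroup.centralizer ({g} : Set G)).index :=
        Subgroup.one_lt_index_of_ne_top hne'
      rw [← hh, ← (Subgroup.centralizer ({g} : Set G)).card_mul_index, mul_comm 2]
      exact Nat.mul_le_mul_left _ h2i
    · rw [smul_eq_mul, Finset.filter_not, Finset.card_sdiff_of_subset (Finset.filter_subset _ _), hbb,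
        Finset.card_univ, ← Nat.card_eq_fintype_card, hh]
  have hpos : 1 ≤ h := hh ▸ Nat.card_pos
  obtain ⟨r, hr⟩ : ∃ r, h = b + r := ⟨h - b, by omega⟩
  rw [hr, Nat.add_sub_cancel_left] at h2
  rw [hh]
  refine Nat.le_of_mul_le_mul_right ?_ hpos
  nlinarith

end CfsgLib.FitMod
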