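import Cfsg.Agent.S0886
import Cfsg.Agent.Char.NormalSub
import Cfsg.Agent.Char.Values
import Mathlib.GroupTheory.SpecificGroups.Cyclic
import Mathlib.LinearAlgebra.Dimension.Finite

/-!
The number of characters over an invariant character of a normal subgroup.
-/

set_option autoImplicit false
set_option linter.style.haveILetI false
set_option linter.unusedSectionVars false

namespace CfsgLib.FitMod

open Cfsg CfsgLib.Char

universe u

variable {G : Type u} [Group G] [Finite G]

/-- On a coset the characters over an invariant character are proportional. -/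
theorem proportional (N : Subgroup G) [hN : N.Normal] [Fintype N] {θ : N → ℂ} (hθ : IsIrrCharacter N θ)
    (hI : inertia θ = ⊤) (g : G) :
    ∃ η : N → ℂ, ∀ χ : G → ℂ, IsIrrCharacter G χ → classInner (fun n : N => χ n) θ ≠ 0 →
      ∃ c : ℂ, ∀ n : N, χ (g * n) = c * η n := by
  classical
  haveI := Fintype.ofFinite G
  let A : Subgroup G := N ⊔ Subgroup.zpowers g
  haveI : Fintype A := Fintype.ofFinite A
  have hNA : N ≤ A := le_sup_left
  let N' := N.subgroupOf A
  haveI : N'.Normal := Subgroup.normal_subgroupOf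
  haveI : Fintype N' := Fintype.ofFinite _
  have hgA : g ∈ A := Subgroup.mem_sup_right (Subgroup.mem_zpowers g)
  have hcyc : IsCyclic (A ⧸ N') := by
    refine ⟨⟨((⟨g, hgA⟩ : A) : A ⧸ N'), fun y => ?_⟩⟩
    obtain ⟨a, rfl⟩ := QuotientGroup.mk'_surjective N' y
    obtain ⟨x, hx, z, hz, he⟩ := Subgroup.mem_sup_of_normal_left.1 a.2
    obtain ⟨i, rfl⟩ := Subgroup.mem_zpowers_iff.1 hz
    refine ⟨i, ?_⟩
    show ((⟨g, hgA⟩ : A) : A ⧸ N') ^ i = (a : A ⧸ N')
    rw [← QuotientGroup.mk_zpow, QuotientGroup.eq, Subgroup.mem_subgroupOf]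
    have : (g ^ i)⁻¹ * (a : G) = (g ^ i)⁻¹ * x * g ^ i := by rw [← he]; group
    push_cast
    rw [this]
    simpa using hN.conj_mem x hx (g ^ i)⁻¹
  let e : N' ≃* N := Subgroup.subgroupOfEquivOfLe hNA
  let θ' : N' → ℂ := fun n => θ (e n)
  have hθ' : IsIrrCharacter N' θ' := IsIrrCharacter.comp_surjective hθ e.toMonoidHom e.surjective
  have hinv : ∀ (a : A) (n : N'), θ' ⟨a * n * a⁻¹, ‹N'.Normal›.conj_mem (n : A) n.2 a⟩ = θ' n := fun a n =>
    (mem_inertia_iff θ (a : G)).1 (hI ▸ Subgroup.mem_top _) ⟨((n : A) : G), n.2⟩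
  obtain ⟨η, hη, hext⟩ := Cfsg.Agent.S0886.result N' hcyc θ' hθ' hinv
  have hres : (fun n : N' => η n) = θ' := funext hext
  refine ⟨fun n => η ⟨g * n, A.mul_mem hgA (hNA n.2)⟩, fun χ hχ hc => ?_⟩
  have hχN : ∀ n : N, χ n = classInner (fun n : N => χ n) θ * θ n := fun n =>
    congrFun (restrict_eq_smul_of_invariant hχ hθ hI hc) n
  obtain ⟨e₀, he₀⟩ : ∃ c, classInner (fun n : N => χ n) θ = c := ⟨_, rfl⟩
  rw [he₀] at hχN
  have hcl : IsClassFunction A (fun a : A => χ a) :=
    IsCharacter.isClassFunction (IsCharacter.restrict (IsIrrCharacter.isCharacter hχ) A)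
  -- each constituent lies over `θ'`
  have hover : ∀ ψ ∈ irrFinset A, classInner (fun a : A => χ a) ψ ≠ 0 →
      classInner (fun n : N' => ψ n) θ' ≠ 0 := by
    intro ψ hψ hne h0
    obtain ⟨ζ, hζ, hζψ⟩ := exists_constituent_restrict (N := N') (mem_irrFinset.1 hψ)
    have hz : ζ ≠ θ' := fun h => hζψ (h ▸ h0)
    have htot : classInner (fun n : N' => χ ((n : A) : G)) ζ = 0 := by
      rw [show (fun n : N' => χ ((n : A) : G)) = e₀ • θ' from funext fun n => hχN (e n), classInner_smul_left,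
        IsIrrCharacter.classInner_of_ne hθ' hζ hz.symm, mul_zero]
    have hsum : classInner (fun n : N' => χ ((n : A) : G)) ζ =
        ∑ φ ∈ irrFinset A, classInner (fun a : A => χ a) φ * classInner (fun n : N' => φ n) ζ := by
      rw [show (fun n : N' => χ ((n : A) : G)) =
          ∑ φ ∈ irrFinset A, classInner (fun a : A => χ a) φ • fun n : N' => φ n from funext fun n => by
        rw [Finset.sum_apply]
        have := congrFun (eq_sum_irr hcl) (n : A)
        rw [Finset.sum_apply] at this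
        exact this,
        classInner_sum_left]
      exact Finset.sum_congr rfl fun φ _ => classInner_smul_left _ _ _
    choose! m hm using fun φ (hφ : φ ∈ irrFinset A) =>
      IsCharacter.exists_classInner_eq_natCast (IsCharacter.restrict (IsIrrCharacter.isCharacter hχ) A) (mem_irrFinset.1 hφ)
    choose! l hl using fun φ (hφ : φ ∈ irrFinset A) =>
      IsCharacter.exists_classInner_eq_natCast (IsCharacter.restrict (IsIrrCharacter.isCharacter (mem_irrFinset.1 hφ)) N') hζ
    rw [htot, Finset.sum_congr rfl fun φ hφ => by rw [hm φ hφ, hl φ hφ, ← Nat.cast_mul], ← Nat.cast_sum,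
      eq_comm, Nat.cast_eq_zero] at hsum
    rcases Nat.mul_eq_zero.1 (Finset.sum_eq_zero_iff.1 hsum ψ hψ) with h | h
    · exact hne (by rw [hm ψ hψ, h, Nat.cast_zero])
    · exact hζψ (by rw [hl ψ hψ, h, Nat.cast_zero])
  have hψ : ∀ ψ ∈ irrFinset A, ∃ c : ℂ, classInner (fun a : A => χ a) ψ ≠ 0 →
      ∀ n : N, ψ ⟨g * n, A.mul_mem hgA (hNA n.2)⟩ = c * η ⟨g * n, A.mul_mem hgA (hNA n.2)⟩ := by
    intro ψ hψ
    by_cases hne : classInner (fun a : A => χ a) ψ = 0
    · exact ⟨0, fun h => absurd hne h⟩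
    obtain ⟨β, ⟨hβ, hker⟩, hβψ⟩ := (gallagher_one hη (by rw [hres]; exact hθ')).surjOn
      (show ψ ∈ {ψ | IsIrrCharacter A ψ ∧ classInner (fun n : N' => ψ n) (fun n : N' => η n) ≠ 0} from
        ⟨mem_irrFinset.1 hψ, by rw [hres]; exact hover ψ hψ hne⟩)
    have hcomm : ∀ a b : A, a * b * a⁻¹ * b⁻¹ ∈ N' := fun a b => by
      letI := hcyc
      rw [← QuotientGroup.eq_one_iff]
      rw [QuotientGroup.mk_mul, QuotientGroup.mk_mul, QuotientGroup.mk_mul, QuotientGroup.mk_inv, QuotientGroup.mk_inv]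
      rw [(IsCyclic.commGroup (α := A ⧸ N')).mul_comm (a : A ⧸ N') b]
      group
    have h1 : β 1 = 1 := IsIrrCharacter.apply_one_eq_one_of_commutators hβ fun a b => hker _ (hcomm a b)
    obtain ⟨lam, hlam⟩ := IsCharacter.exists_hom (IsIrrCharacter.isCharacter hβ) h1
    refine ⟨β ⟨g, hgA⟩, fun _ n => ?_⟩
    simp only at hβψ
    rw [← hβψ, Pi.mul_apply]
    congr 1
    have hn : β ⟨(n : G), hNA n.2⟩ = 1 := (hker _ n.2).trans h1
    rw [hlam] at hn ⊢
    show (lam (⟨g, hgA⟩ * ⟨(n : G), hNA n.2⟩ : A) : ℂ) = lam ⟨g, hgA⟩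
    rw [map_mul, Units.val_mul, show (lam ⟨(n : G), hNA n.2⟩ : ℂ) = 1 from hn, mul_one]
  choose! cψ hcψ using hψ
  refine ⟨∑ ψ ∈ irrFinset A, classInner (fun a : A => χ a) ψ * cψ ψ, fun n => ?_⟩
  have h := congrFun (eq_sum_irr hcl) ⟨g * n, A.mul_mem hgA (hNA n.2)⟩
  rw [Finset.sum_apply] at h
  rw [show χ (g * n) = _ from h, Finset.sum_mul]
  refine Finset.sum_congr rfl fun ψ hψm => ?_
  rw [Pi.smul_apply, smul_eq_mul]
  by_cases hne : classInner (fun a : A => χ a) ψ = 0
  · rw [hne, zero_mul, zero_mul, zero_mul]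
  · rw [hcψ ψ hψm hne n, mul_assoc]

/-- There are no more characters over an invariant character than classes of the quotient. -/
theorem card_over_invariant_le (N : Subgroup G) [hN : N.Normal] [Fintype N] {θ : N → ℂ}
    (hθ : IsIrrCharacter N θ) (hI : inertia θ = ⊤) :
    Set.ncard {χ : IrrCharacter G | classInner (fun n : N => (χ : G → ℂ) n) θ ≠ 0} ≤
      Nat.card (ConjClasses (G ⧸ N)) := by
  classical
  haveI := Fintype.ofFinite G
  set T := {χ : IrrCharacter G | classInner (fun n : N => (χ : G → ℂ) n) θ ≠ 0}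
  haveI : Finite (IrrCharacter G) := Set.finite_coe_iff.2 (Set.finite_coe_iff.1 (finite_irrCharacter G))
  haveI : Fintype T := Fintype.ofFinite T
  haveI : Fintype (ConjClasses (G ⧸ N)) := Fintype.ofFinite _
  -- a point in each class of cosets
  have hpt : ∀ C : ConjClasses (G ⧸ N), ∃ x : G, ConjClasses.mk (x : G ⧸ N) = C ∧
      ((∀ χ : T, (χ.1 : G → ℂ) x = 0) → ∀ χ : T, ∀ n : N, (χ.1 : G → ℂ) (x * n) = 0) := by
    intro C
    obtain ⟨y, rfl⟩ := ConjClasses.mk_surjective C
    obtain ⟨g, rfl⟩ := QuotientGroup.mk_surjective y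
    by_cases h : ∀ χ : T, ∀ n : N, (χ.1 : G → ℂ) (g * n) = 0
    · exact ⟨g, rfl, fun _ => h⟩
    · push Not at h
      obtain ⟨χ, n, hn⟩ := h
      exact ⟨g * n, by rw [QuotientGroup.mk_mul, (QuotientGroup.eq_one_iff (n : G)).2 n.2, mul_one],
        fun h0 => absurd (h0 χ) hn⟩
  choose r hr hr0 using hpt
  let Φ : (T → ℂ) →ₗ[ℂ] (ConjClasses (G ⧸ N) → ℂ) :=
    { toFun := fun a C => ∑ χ : T, a χ * (χ.1 : G → ℂ) (r C)
      map_add' := fun a b => funext fun C => by simp [add_mul, Finset.sum_add_distrib]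
      map_smul' := fun c a => funext fun C => by simp [Finset.mul_sum, mul_assoc] }
  have hΦ : Function.Injective Φ := by
    refine (injective_iff_map_eq_zero Φ).2 fun a ha => funext fun χ₀ => ?_
    have hli := Fintype.linearIndependent_iff.1
      ((linearIndependent_irr (G := G)).comp (fun χ : T => χ.1) Subtype.val_injective) a (funext fun x => ?_)
    · exact hli χ₀
    simp only [Finset.sum_apply, Pi.smul_apply, smul_eq_mul, Function.comp_apply, Pi.zero_apply]
    -- move to the chosen coset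
    obtain ⟨w, hw⟩ := isConj_iff.1 (ConjClasses.mk_eq_mk_iff_isConj.1 (hr (ConjClasses.mk (x : G ⧸ N))).symm)
    obtain ⟨w, rfl⟩ := QuotientGroup.mk_surjective w
    set s := r (ConjClasses.mk (x : G ⧸ N))
    obtain ⟨n, hn⟩ : ∃ n : N, w * x * w⁻¹ = s * n := by
      refine ⟨⟨s⁻¹ * (w * x * w⁻¹), QuotientGroup.eq.1 ?_⟩, by simp⟩
      simp only [QuotientGroup.mk_mul, QuotientGroup.mk_inv]
      exact hw.symm
    rw [Finset.sum_congr rfl fun χ _ => by
      rw [← IsIrrCharacter.isClassFunction χ.1.2 x w, hn]]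
    have h0 : ∑ χ : T, a χ * (χ.1 : G → ℂ) s = 0 := congrFun ha (ConjClasses.mk (x : G ⧸ N))
    obtain ⟨η, hη⟩ := proportional N hθ hI s
    choose c hc using fun χ : T => hη (χ.1 : G → ℂ) χ.1.2 χ.2
    have hs : ∀ χ : T, (χ.1 : G → ℂ) s = c χ * η 1 := fun χ => by
      have := hc χ 1
      rwa [OneMemClass.coe_one, mul_one] at this
    by_cases he : η 1 = 0
    · refine Finset.sum_eq_zero fun χ _ => ?_
      rw [hr0 _ (fun χ => by rw [hs χ, he, mul_zero]) χ n, mul_zero]
    · simp only [hs, ← mul_assoc, ← Finset.sum_mul, mul_eq_zero] at h0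
      simp only [hc, ← mul_assoc, ← Finset.sum_mul, h0.resolve_right he, zero_mul]
  have h := LinearMap.finrank_le_finrank_of_injective hΦ
  rw [Module.finrank_pi, Module.finrank_pi] at h
  rwa [← Nat.card_coe_set_eq, Nat.card_eq_fintype_card, Nat.card_eq_fintype_card]

end CfsgLib.FitMod
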