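import Cfsg.Agent.FitMod.Constrained
import Cfsg.Agent.FitMod.OverInvariant
import Cfsg.Agent.BlocksB.PSolvableHeight

/-!
The size of a block of a solvable group.
-/

set_option autoImplicit false
set_option linter.style.haveILetI false
set_option linter.unusedSectionVars false

namespace CfsgLib.FitMod

open Cfsg Finset CfsgLib.Block CfsgLib.Block.Chr CfsgLib.Char

universe u

variable {p : ℕ} [Fact p.Prime] {M : Ideal AlgInt} [M.IsPrime]

theorem block_ncard_le (hM : IsPModular p M) : ∀ n : ℕ, ∀ (G : Type u) [Group G] [Fintype G],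
    Nat.card G = n → Group.IsSolvable G → ∀ (B : Set (IrrCharacter G)), IsPBlock M B →
    B.ncard ≤ 3 ^ (blockDefect p B - 1) * p ^ blockDefect p B := by
  intro n
  induction n using Nat.strong_induction_on with
  | _ n ih =>
  intro G _ _ hn hsol B hB
  classical
  haveI := hsol
  let N := Cfsg.pPrimeCore p G
  haveI hNn : N.Normal := (CfsgLib.Solvable.pPrimeCore_spec p).1
  have hNp : ¬ p ∣ Nat.card N := fun h =>
    (Fact.out : p.Prime).ne_one (Nat.eq_one_of_dvd_coprimes
      (CfsgLib.Solvable.coprime_card_pPrimeCore p) h dvd_rfl)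
  haveI : Fintype N := Fintype.ofFinite N
  obtain ⟨χ, hχ⟩ := exists_mem_block hB
  obtain ⟨θf, hθf, hc⟩ := exists_constituent_restrict (N := N) χ.2
  let θ : IrrCharacter N := ⟨θf, hθf⟩
  by_cases hT : inertia θf = ⊤
  · have hinv : ∀ g : G, conjIrr g θ = θ := fun g =>
      Subtype.ext ((mem_inertia θf g).1 (hT ▸ Subgroup.mem_top g))
    have hsc : CfsgLib.PConstrained.SelfCent p (G ⧸ N) := selfCent_quotient_of_solvable
    obtain ⟨B', hB', hiff, -, hsyl⟩ := block_over_invariant hM hNp hsc hinv
    obtain rfl : B = B' := block_eq_of_common hB hB' hχ ((hiff χ).2 hc)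
    have hd : blockDefect p B = (Nat.card (G ⧸ N)).factorization p := by
      obtain ⟨D, hD⟩ := exists_defectGroup (p := p) hB hM
      obtain ⟨P, rfl⟩ := hsyl D hD
      have h := card_defectGroup hM hB hD
      rw [Sylow.card_eq_multiplicity] at h
      have h' := Nat.pow_right_injective (Fact.out : p.Prime).two_le h
      rw [← h', ← N.card_mul_index, Nat.factorization_mul Nat.card_pos.ne' Subgroup.index_ne_zero_of_finite,
        Finsupp.add_apply, Nat.factorization_eq_zero_of_not_dvd hNp, zero_add]
      rfl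
    haveI : Group.IsSolvable (G ⧸ N) := Group.isSolvable_of_surjective (QuotientGroup.mk'_surjective N)
    have hset : B = {χ : IrrCharacter G | classInner (fun n : N => (χ : G → ℂ) n) θf ≠ 0} := Set.ext hiff
    calc B.ncard ≤ Nat.card (ConjClasses (G ⧸ N)) := hset ▸ card_over_invariant_le N hθf hT
      _ ≤ _ := hd ▸ classes_le_of_core inferInstance (CfsgLib.Fitting.pPrimeCore_quotient_eq_bot p)
  · set T := inertia θf with hTdef
    haveI : Fintype T := Fintype.ofFinite T
    have hNT : N ≤ T := le_inertia (IsIrrCharacter.isClassFunction hθf)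
    have hb : IsPBlock M ({θ} : Set (IrrCharacter N)) :=
      ⟨θ, (blockOf_eq_singleton hM hNp θ).symm⟩
    have hS : IsStab ({θ} : Set (IrrCharacter N)) T := by
      intro g η hη
      rw [Set.mem_singleton_iff.1 hη, Set.mem_singleton_iff, hTdef, mem_inertia,
        Subtype.ext_iff]
      rfl
    obtain ⟨ψ, hψ, hcψ⟩ := exists_stab_inducing hS hNT (Set.mem_singleton θ) hc
    have hB' := isPBlock_blockOf (M := M) ψ
    obtain ⟨B₁, hind, -, h₁, h₂⟩ := stab_block_correspond hb hS hNT hB'
      ⟨ψ, mem_blockOf_self ψ, θ, Set.mem_singleton θ, hcψ⟩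
    have hχ₁ : χ ∈ B₁ := mem_induced_of_indFun hind (mem_blockOf_self ψ) hψ
    obtain rfl : B = B₁ := block_eq_of_common hB hind.2.1 hχ hχ₁
    have hd := (stab_defect_height (p := p) hB' h₁ h₂).1
    choose f hf hfe using h₂
    have hle : B.ncard ≤ (blockOf M (ψ : T → ℂ)).ncard := by
      haveI : Finite (IrrCharacter T) := Set.finite_coe_iff.2 (Set.finite_coe_iff.1 (finite_irrCharacter T))
      rw [← Nat.card_coe_set_eq, ← Nat.card_coe_set_eq]
      exact Nat.card_le_card_of_injective (fun x : B => (⟨f x.1 x.2, hf x.1 x.2⟩ : blockOf M (ψ : T → ℂ)))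
        fun a b e => Subtype.ext (Subtype.ext ((hfe a.1 a.2).trans
          ((congrArg (fun z : IrrCharacter T => indFun T (z : T → ℂ)) (congrArg Subtype.val e)).trans
            (hfe b.1 b.2).symm)))
    have hlt : Nat.card T < n := by
      rw [← hn]
      refine lt_of_le_of_ne (Nat.le_of_dvd Nat.card_pos T.card_subgroup_dvd_card) fun h => hT ?_
      exact Subgroup.eq_top_of_card_eq T h
    rw [hd]
    exact hle.trans (ih _ hlt T rfl (Group.isSolvable_of_isSolvable_injective T.subtype_injective) _ hB')

end CfsgLib.FitMod
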