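import Cfsg.Agent.FitMod.Small
import Mathlib.GroupTheory.Perm.Cycle.Type
import Mathlib.NumberTheory.Divisors
import Mathlib.Tactic.IntervalCases
import Mathlib.Tactic.NormNum.Prime

/-!
Isometries of a binary space commuting with a fixed-point-free element of odd prime order.
-/

set_option autoImplicit false
set_option linter.style.haveILetI false
set_option linter.unusedSectionVars false

namespace CfsgLib.FitMod

open CfsgLib.SolvLinK

universe u

variable {V : Type u} [CommGroup V] [Finite V] {k : Type*} [Field k]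

/-- The indices of invariant subgroups. -/
def invIdx (n ℓ : ℕ) : Finset ℕ := (Finset.range (n + 1)).filter fun i => 2 ^ i % ℓ = 1

/-- An invariant set without fixed points. -/
theorem dvd_invariant {ℓ : ℕ} (hℓ : ℓ.Prime) (b : MulAut V) (hb : b ^ ℓ = 1) (T : Set V)
    (hT : ∀ y ∈ T, b y ∈ T) (hfree : ∀ y ∈ T, b y ≠ y) : ℓ ∣ T.ncard := by
  classical
  haveI : Fact ℓ.Prime := ⟨hℓ⟩
  haveI := Fintype.ofFinite T
  let f : Function.End T := fun y => ⟨b y, hT y y.2⟩
  have hf : ∀ (i : ℕ) (y : T), (((f ^ i) y : T) : V) = (b ^ i) y := fun i => by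
    induction i with
    | zero => intro y; rw [pow_zero, pow_zero]; rfl
    | succ i ih => intro y; rw [pow_succ', pow_succ', MulAut.mul_apply, ← ih]; rfl
  have hfp : f ^ ℓ ^ 1 = 1 := funext fun y => Subtype.ext (by rw [hf, pow_one, hb]; rfl)
  have h := Equiv.Perm.card_fixedPoints_modEq hfp
  have h1 : Fintype.card f.fixedPoints = 0 := Fintype.card_eq_zero_iff.2
    ⟨fun y => hfree _ y.1.2 (congrArg Subtype.val y.2)⟩
  rw [h1] at h
  rw [← Nat.card_coe_set_eq, Nat.card_eq_fintype_card]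
  exact Nat.modEq_zero_iff_dvd.1 h

/-- A binary space with a fixed-point-free isometry of prime order. -/
structure FpfData (β : V →* V →* kˣ) (n ℓ : ℕ) (b : MulAut V) : Prop where
  hV : Nat.card V = 2 ^ n
  hexp : ∀ x : V, x ^ 2 = 1
  hnd : ∀ y, (∀ x, β x y = 1) → y = 1
  hskew : ∀ x y, β x y * β y x = 1
  hℓ : ℓ.Prime
  hodd : ℓ ≠ 2
  hpow : b ^ ℓ = 1
  hfree : ∀ y, b y = y → y = 1
  hiso : ∀ x y, β (b x) (b y) = β x y

variable {β : V →* V →* kˣ} {n ℓ : ℕ} {b : MulAut V}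

theorem FpfData.mul_self (D : FpfData β n ℓ b) (x : V) : x * x = 1 := by rw [← sq]; exact D.hexp x

theorem FpfData.idx (D : FpfData β n ℓ b) (H : Subgroup V) (j : ℕ) (hH : ∀ h ∈ H, b h ∈ H)
    (hj : Nat.card H = 2 ^ j) : j ∈ invIdx n ℓ := by
  have h1 : ℓ ∣ 2 ^ j - 1 := by
    have := dvd_invariant D.hℓ b D.hpow ((H : Set V) \ {1})
      (fun y hy => ⟨hH y hy.1, fun h => hy.2 ((MulEquiv.map_eq_one_iff b).1 h)⟩)
      (fun y hy h => hy.2 (D.hfree y h))
    rw [Set.ncard_sdiff_singleton_of_mem H.one_mem, ← Nat.card_coe_set_eq] at this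
    exact hj ▸ this
  refine Finset.mem_filter.2 ⟨Finset.mem_range.2 (Nat.lt_succ_of_le ?_), ?_⟩
  · have := Subgroup.card_le_card_group H
    rw [hj, D.hV] at this
    exact (Nat.pow_le_pow_iff_right (by norm_num)).1 this
  · obtain ⟨c, hc⟩ := h1
    rw [show 2 ^ j = 1 + ℓ * c by have := Nat.one_le_two_pow (n := j); omega, Nat.add_mul_mod_self_left,
      Nat.one_mod_eq_one.2 D.hℓ.one_lt.ne']

/-- Isometries commuting with `b` and fixing an invariant subgroup. -/
theorem FpfData.card_fix_le (D : FpfData β n ℓ b) {K : Subgroup V} {j : ℕ} (hK : Nat.card K = 2 ^ j)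
    (hKb : ∀ h ∈ K, b h ∈ K) {C : Subgroup (MulAut V)}
    (hiso : ∀ c ∈ C, ∀ x y, β (c x) (c y) = β x y) (hCb : ∀ c ∈ C, Commute c b)
    (hC : ∀ c ∈ C, ∀ y ∈ K, c y = y) :
    Nat.card C ≤ ∏ i ∈ (Finset.Ico j n).filter (· ∈ invIdx n ℓ), min (2 ^ n - 2 ^ i) (2 ^ (n - i)) := by
  haveI := finite_aut (V := V)
  exact (Subgroup.card_le_of_le (K := isoFix β b K) fun c hc => ⟨hiso c hc, hCb c hc, hC c hc⟩).trans
    (card_isoFix_le β Nat.prime_two D.hV D.hnd b _ (fun H i hH hi => D.idx H i hH hi) _ j K rfl hKb hK)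

/-- Isometries commuting with `b`. -/
def FpfGroup (β : V →* V →* kˣ) (b : MulAut V) (C : Subgroup (MulAut V)) : Prop :=
  (∀ c ∈ C, ∀ x y, β (c x) (c y) = β x y) ∧ ∀ c ∈ C, Commute c b

theorem FpfGroup.card_le (D : FpfData β n ℓ b) {C : Subgroup (MulAut V)} (hC : FpfGroup β b C) :
    Nat.card C ≤ ∏ i ∈ (Finset.Ico 0 n).filter (· ∈ invIdx n ℓ), min (2 ^ n - 2 ^ i) (2 ^ (n - i)) :=
  D.card_fix_le (K := ⊥) (by rw [Subgroup.card_bot, pow_zero])
    (fun h hh => by rw [Subgroup.mem_bot] at hh ⊢; rw [hh, map_one]) hC.1 hC.2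
    (fun c _ y hy => by rw [Subgroup.mem_bot] at hy; rw [hy, map_one])

theorem FpfGroup.mono {C C' : Subgroup (MulAut V)} (hC : FpfGroup β b C) (h : C' ≤ C) : FpfGroup β b C' :=
  ⟨fun c hc => hC.1 c (h hc), fun c hc => hC.2 c (h hc)⟩

/-- The subgroup fixed pointwise by a stabiliser. -/
theorem fix_closure (c : MulAut V) {s : Set V} (h : ∀ y ∈ s, c y = y) {y : V} (hy : y ∈ Subgroup.closure s) :
    c y = y := by
  induction hy using Subgroup.closure_induction with
  | mem y hy => exact h y hy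
  | one => exact map_one _
  | mul a d _ _ ha hd => rw [map_mul, ha, hd]
  | inv a _ ha => rw [map_inv, ha]

section Three

variable (D : FpfData β n 3 b)

include D

theorem FpfData.three_rel (v : V) : b (b v) = v * b v := by
  have h3 : b (b (b v)) = v := by
    have := DFunLike.congr_fun D.hpow v
    rwa [pow_succ, pow_succ, pow_one, MulAut.mul_apply, MulAut.mul_apply, MulAut.one_apply] at this
  have h1 : v * b v * b (b v) = 1 := D.hfree _ (by rw [map_mul, map_mul, h3, mul_comm, mul_assoc])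
  calc b (b v) = (v * b v) * (v * b v * b (b v)) := by
        rw [← mul_assoc, D.mul_self, one_mul]
    _ = v * b v := by rw [h1, mul_one]

/-- The line of a point over the field of four elements. -/
def line4 (v : V) : Subgroup V where
  carrier := {1, v, b v, v * b v}
  one_mem' := by simp
  mul_mem' := by
    have e := D.mul_self
    have e1 : v * (v * b v) = b v := by rw [← mul_assoc, e, one_mul]
    have e2 : b v * (v * b v) = v := by rw [mul_left_comm, e, mul_one]
    have e3 : v * b v * v = b v := by rw [mul_comm, e1]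
    have e4 : v * b v * b v = v := by rw [mul_assoc, e, mul_one]
    have e5 : b v * v = v * b v := mul_comm _ _
    rintro x y (hx | hx | hx | hx) (hy | hy | hy | hy) <;> rw [hx, hy] <;>
      simp [e, e1, e2, e3, e4, e5]
  inv_mem' := by
    rintro x hx
    rwa [inv_eq_of_mul_eq_one_right (D.mul_self x)]

theorem mem_line4 (v : V) : v ∈ line4 D v := Or.inr (Or.inl rfl)

theorem b_mem_line4 {v y : V} (hy : y ∈ line4 D v) : b y ∈ line4 D v := by
  rcases hy with rfl | rfl | rfl | rfl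
  · rw [map_one]; exact Or.inl rfl
  · exact Or.inr (Or.inr (Or.inl rfl))
  · exact Or.inr (Or.inr (Or.inr (D.three_rel v)))
  · refine Or.inr (Or.inl ?_)
    rw [map_mul, D.three_rel, ← mul_assoc, mul_comm (b v) v, mul_assoc, D.mul_self, mul_one]

theorem card_line4 {v : V} (hv : v ≠ 1) : Nat.card (line4 D v) = 2 ^ 2 := by
  classical
  have h1 : b v ≠ v := fun h => hv (D.hfree v h)
  have h2 : b v ≠ 1 := fun h => hv ((MulEquiv.map_eq_one_iff b).1 h)
  have h3 : v * b v ≠ 1 := fun h => h1 (by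
    rw [← mul_one (b v), ← D.mul_self v, ← mul_assoc, mul_comm (b v) v, h, one_mul])
  have h4 : v ≠ v * b v := fun h => h2 (mul_left_cancel (a := v) (by rw [mul_one, ← h]))
  have h5 : b v ≠ v * b v := fun h => hv (mul_right_cancel (b := b v) (by rw [one_mul, ← h]))
  show Nat.card ({1, v, b v, v * b v} : Set V) = _
  rw [Nat.card_coe_set_eq, Set.ncard_insert_of_notMem, Set.ncard_insert_of_notMem, Set.ncard_pair h5]
  · norm_num
  · simp [h1.symm, h4]
  · simp [Ne.symm hv, Ne.symm h2, Ne.symm h3]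

theorem line4_dis {v u : V} (hu : u ∉ line4 D v) : line4 D v ⊓ line4 D u = ⊥ := by
  have hu1 : u ≠ 1 := fun h => hu (h ▸ Subgroup.one_mem _)
  obtain ⟨j, hj2, hj⟩ := (Nat.dvd_prime_pow Nat.prime_two).1 (card_line4 D hu1 ▸
    Subgroup.card_dvd_of_le (inf_le_right : line4 D v ⊓ line4 D u ≤ line4 D u))
  have hJ := D.idx (line4 D v ⊓ line4 D u) j (fun h hh => ⟨b_mem_line4 D hh.1, b_mem_line4 D hh.2⟩) hj
  rw [invIdx, Finset.mem_filter] at hJ
  rcases (by omega : j = 0 ∨ j = 1 ∨ j = 2) with rfl | rfl | rfl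
  · exact Subgroup.eq_bot_of_card_eq _ (by rw [hj, pow_zero])
  · simp at hJ
  · have := Subgroup.eq_of_le_of_card_ge (inf_le_right : line4 D v ⊓ line4 D u ≤ line4 D u)
      (hj.trans (card_line4 D hu1).symm).ge
    exact absurd (this.ge (mem_line4 D u)).1 hu

/-- An element commuting with `x` and fixing `v` fixes a large invariant subgroup. -/
theorem three_span {x : MulAut V} {v : V} (hx : x v ∉ line4 D v) :
    ∃ (K : Subgroup V) (j : ℕ), 4 ≤ j ∧ j ≤ n ∧ Nat.card K = 2 ^ j ∧ (∀ h ∈ K, b h ∈ K) ∧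
      ∀ c : MulAut V, Commute c b → Commute c x → c v = v → ∀ y ∈ K, c y = y := by
  have hv : v ≠ 1 := fun h => hx (by rw [h, map_one]; exact Subgroup.one_mem _)
  let K := Subgroup.closure ((line4 D v : Set V) ∪ line4 D (x v))
  have hvK : line4 D v ≤ K := fun y hy => Subgroup.subset_closure (Or.inl hy)
  have hb : ∀ h ∈ K, b h ∈ K := fun h hh => by
    induction hh using Subgroup.closure_induction with
    | mem y hy =>
      rcases hy with hy | hy
      · exact Subgroup.subset_closure (Or.inl (b_mem_line4 D hy))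
      · exact Subgroup.subset_closure (Or.inr (b_mem_line4 D hy))
    | one => rw [map_one]; exact Subgroup.one_mem _
    | mul a d _ _ ha hd => rw [map_mul]; exact Subgroup.mul_mem _ ha hd
    | inv a _ ha => rw [map_inv]; exact Subgroup.inv_mem _ ha
  obtain ⟨j, hjn, hj⟩ := (Nat.dvd_prime_pow Nat.prime_two).1 (D.hV ▸ Subgroup.card_subgroup_dvd_card K)
  have h2 : Nat.card (line4 D v) < Nat.card K := lt_of_le_of_ne (Subgroup.card_le_of_le hvK) fun h => hx (by
    rw [Subgroup.eq_of_le_of_card_ge hvK h.ge]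
    exact Subgroup.subset_closure (Or.inr (mem_line4 D (x v))))
  rw [card_line4 D hv, hj] at h2
  have h3 : 2 < j := (Nat.pow_lt_pow_iff_right (by norm_num)).1 h2
  have hJ := D.idx K j hb hj
  rw [invIdx, Finset.mem_filter] at hJ
  refine ⟨K, j, ?_, hjn, hj, hb, fun c hcb hcx hcv y hy => fix_closure c ?_ hy⟩
  · by_contra h
    obtain rfl : j = 3 := by omega
    norm_num at hJ
  have hcbv : c (b v) = b v := by rw [← MulAut.mul_apply, hcb.eq, MulAut.mul_apply, hcv]
  have hcxv : c (x v) = x v := by rw [← MulAut.mul_apply, hcx.eq, MulAut.mul_apply, hcv]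
  have hcbxv : c (b (x v)) = b (x v) := by rw [← MulAut.mul_apply, hcb.eq, MulAut.mul_apply, hcxv]
  rintro y (hy | hy) <;> rcases hy with rfl | rfl | rfl | rfl <;> simp [hcv, hcbv, hcxv, hcbxv]

theorem exists_not_mem_line4 (hn : 2 < n) (w : V) (hw : w ≠ 1) : ∃ u, u ∉ line4 D w := by
  by_contra h
  push Not at h
  have h1 := card_line4 D hw
  rw [(Subgroup.eq_top_iff' _).2 h, Subgroup.card_top, D.hV] at h1
  exact absurd ((Nat.pow_right_injective le_rfl) h1) (by omega)

end Three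

/-- The value of the form on a point and its image. -/
def hval (β : V →* V →* kˣ) (b : MulAut V) (v : V) : kˣ := β v (b v)

theorem FpfData.sq_eq_one (D : FpfData β n ℓ b) (x y : V) : β x y * β x y = 1 := by
  rw [← map_mul, D.mul_self, map_one]

theorem FpfData.symm' (D : FpfData β n ℓ b) (x y : V) : β y x = β x y :=
  mul_left_cancel ((D.hskew x y).trans (D.sq_eq_one x y).symm)

theorem FpfGroup.hval_eq {C : Subgroup (MulAut V)} (hC : FpfGroup β b C) {c : MulAut V} (hc : c ∈ C) (v : V) :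
    hval β b (c v) = hval β b v := by
  show β (c v) (b (c v)) = β v (b v)
  show β (c v) ((b * c) v) = β v (b v)
  rw [← (hC.2 c hc).eq, MulAut.mul_apply, hC.1 c hc]

theorem FpfData.exists_hval_ne (D : FpfData β n ℓ b) (hn : n ≠ 0) :
    ∃ v, hval β b v ≠ 1 := by
  by_contra h
  push Not at h
  have h1 : ∀ x y, β x (b y) = β (b x) y := fun x y => by
    have e : β x (b x) * β x (b y) * (β y (b x) * β y (b y)) = 1 := by
      have := h (x * y)
      simp only [hval, map_mul, MonoidHom.mul_apply] at this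
      rw [← this]; ac_rfl
    rw [show β x (b x) = 1 from h x, show β y (b y) = 1 from h y, one_mul, mul_one, D.symm' (b x) y] at e
    exact mul_right_cancel (e.trans (D.sq_eq_one (b x) y).symm)
  have h2 : ∀ y, b y = b⁻¹ y := fun y => by
    refine mul_inv_eq_one.1 (D.hnd _ fun x => ?_)
    rw [map_mul, map_inv, h1 x y, mul_inv_eq_one]
    conv_rhs => rw [← D.hiso x (b⁻¹ y), MulAut.apply_inv_self]
  obtain ⟨y, hy⟩ : ∃ y : V, y ≠ 1 := by
    haveI : Nontrivial V := Finite.one_lt_card_iff_nontrivial.1 (by rw [D.hV]; exact Nat.one_lt_two_pow hn)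
    exact exists_ne 1
  have hb2 : b ^ 2 = 1 := MulEquiv.ext fun z => by
    rw [sq, MulAut.mul_apply, h2 z, MulAut.apply_inv_self, MulAut.one_apply]
  have hb1 : b = 1 := by
    have hd : orderOf b ∣ Nat.gcd 2 ℓ := Nat.dvd_gcd (orderOf_dvd_of_pow_eq_one hb2) (orderOf_dvd_of_pow_eq_one D.hpow)
    rw [(Nat.coprime_primes Nat.prime_two D.hℓ).2 (Ne.symm D.hodd)] at hd
    exact orderOf_eq_one_iff.1 (Nat.dvd_one.1 hd)
  exact hy (D.hfree y (by rw [hb1]; rfl))

theorem eq_of_sq_eq_one {u w : kˣ} (hu : u * u = 1) (hw : w * w = 1) (hu1 : u ≠ 1) (hw1 : w ≠ 1) : u = w := by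
  have key : ∀ a : kˣ, a * a = 1 → a ≠ 1 → (a : k) = -1 := fun a ha ha1 =>
    (mul_self_eq_one_iff.1 (by rw [← Units.val_mul, ha, Units.val_one])).resolve_left fun h => ha1 (Units.ext h)
  exact Units.ext ((key u hu hu1).trans (key w hw hw1).symm)

theorem FpfData.exists_hval_eq (D : FpfData β n ℓ b) (hn : 4 ≤ n) : ∃ v, v ≠ 1 ∧ hval β b v = 1 := by
  classical
  by_contra h
  push Not at h
  have hpair : ∀ x y, x ≠ 1 → y ≠ 1 → x * y ≠ 1 → β x (b y) * β y (b x) ≠ 1 := by
    intro x y hx hy hxy e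
    refine h (x * y) hxy ?_
    show β (x * y) (b (x * y)) = 1
    simp only [map_mul, MonoidHom.mul_apply]
    have e2 : β x (b x) = β y (b y) := eq_of_sq_eq_one (D.sq_eq_one _ _) (D.sq_eq_one _ _) (h x hx) (h y hy)
    calc _ = β x (b x) * β y (b y) * (β x (b y) * β y (b x)) := by ac_rfl
      _ = 1 := by rw [e, mul_one, e2, D.sq_eq_one]
  haveI := Fintype.ofFinite V
  have hcard : 16 ≤ Fintype.card V := by
    rw [← Nat.card_eq_fintype_card, D.hV]
    exact le_trans (by norm_num) (Nat.pow_le_pow_right (by norm_num : 0 < 2) hn)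
  have pick : ∀ s : Finset V, s.card < 16 → ∃ x, x ∉ s := fun s hs => by
    by_contra hc
    push Not at hc
    have := Finset.card_le_card (fun x (_ : x ∈ (Finset.univ : Finset V)) => hc x)
    rw [Finset.card_univ] at this
    omega
  obtain ⟨x, hx⟩ := pick {1} (by simp)
  obtain ⟨y, hy⟩ := pick {1, x} (lt_of_le_of_lt (Finset.card_le_two) (by norm_num))
  obtain ⟨z, hz⟩ := pick {1, x, y, x * y} (lt_of_le_of_lt (Finset.card_le_four) (by norm_num))
  simp only [Finset.mem_singleton, Finset.mem_insert, not_or] at hx hy hz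
  have hinv : ∀ a c : V, a * c = 1 → a = c := fun a c e => by
    have : c = a⁻¹ := eq_inv_of_mul_eq_one_right e
    rw [this, inv_eq_of_mul_eq_one_right (D.mul_self a)]
  have n1 := hpair x y hx hy.1 fun e => hy.2 (hinv _ _ e).symm
  have n2 := hpair x z hx hz.1 fun e => hz.2.1 (hinv _ _ e).symm
  have hyz : y * z ≠ 1 := fun e => hz.2.2.1 (hinv _ _ e).symm
  have n3 := hpair x (y * z) hx hyz fun e => hz.2.2.2 (hinv _ _ (by rw [mul_assoc]; exact e)).symm
  have hsq : ∀ a c, β x a * β c (b x) * (β x a * β c (b x)) = 1 := fun a c => by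
    rw [mul_mul_mul_comm, D.sq_eq_one, D.sq_eq_one, one_mul]
  refine n3 ?_
  simp only [map_mul, MonoidHom.mul_apply]
  calc _ = (β x (b y) * β y (b x)) * (β x (b z) * β z (b x)) := by ac_rfl
    _ = 1 := by rw [eq_of_sq_eq_one (hsq _ _) (hsq _ _) n1 n2, hsq]

theorem FpfData.classes (D : FpfData β 4 ℓ b) :
    ∃ T₁ T₂ : Set V, (∀ C, FpfGroup β b C → ∀ c ∈ C, ∀ v, (v ∈ T₁ → c v ∈ T₁) ∧ (v ∈ T₂ → c v ∈ T₂)) ∧
      T₁.Nonempty ∧ T₂.Nonempty ∧ (∀ v, v ≠ 1 → v ∈ T₁ ∨ v ∈ T₂) ∧ (∀ v ∈ T₁ ∪ T₂, v ≠ 1) ∧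
      ℓ ∣ T₁.ncard ∧ ℓ ∣ T₂.ncard ∧ T₁.ncard + T₂.ncard = 15 := by
  classical
  let T₁ : Set V := {v | v ≠ 1 ∧ hval β b v = 1}
  let T₂ : Set V := {v | v ≠ 1 ∧ hval β b v ≠ 1}
  have hb : ∀ v, hval β b (b v) = hval β b v := fun v => D.hiso v (b v)
  have hne : ∀ (c : MulAut V) v, v ≠ 1 → c v ≠ 1 := fun c v hv h => hv ((MulEquiv.map_eq_one_iff c).1 h)
  refine ⟨T₁, T₂, fun C hC c hc v => ⟨fun hv => ⟨hne c v hv.1, (hC.hval_eq hc v).trans hv.2⟩,
    fun hv => ⟨hne c v hv.1, fun h => hv.2 ((hC.hval_eq hc v).symm.trans h)⟩⟩, ?_, ?_, ?_, ?_, ?_, ?_, ?_⟩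
  · obtain ⟨v, hv⟩ := D.exists_hval_eq le_rfl; exact ⟨v, hv⟩
  · obtain ⟨v, hv⟩ := D.exists_hval_ne (by norm_num)
    exact ⟨v, fun h => hv (by rw [h]; simp [hval]), hv⟩
  · intro v hv
    by_cases h : hval β b v = 1
    · exact Or.inl ⟨hv, h⟩
    · exact Or.inr ⟨hv, h⟩
  · rintro v (hv | hv) <;> exact hv.1
  · exact dvd_invariant D.hℓ b D.hpow T₁ (fun y hy => ⟨hne b y hy.1, (hb y).trans hy.2⟩) fun y hy h => hy.1 (D.hfree y h)
  · exact dvd_invariant D.hℓ b D.hpow T₂ (fun y hy => ⟨hne b y hy.1, fun h => hy.2 ((hb y).symm.trans h)⟩)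
      fun y hy h => hy.1 (D.hfree y h)
  · rw [← Set.ncard_union_eq (Set.disjoint_left.2 fun v h1 h2 => h2.2 h1.2)]
    rw [show T₁ ∪ T₂ = ({1} : Set V)ᶜ from Set.ext fun v => ?_, Set.ncard_compl, Set.ncard_singleton, D.hV]
    · norm_num
    · by_cases h : hval β b v = 1 <;> simp [T₁, T₂, h]

/-- Sixteen points. -/
theorem kb_fpf_four (D : FpfData β 4 ℓ b) {C : Subgroup (MulAut V)} (hC : FpfGroup β b C) :
    (ℓ = 3 → KB C 12) ∧ (ℓ = 5 → KB C 5) := by
  classical
  haveI := finite_aut (V := V)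
  obtain ⟨T₁, T₂, hinv, ⟨v₁, hv₁⟩, ⟨v₂, hv₂⟩, hcov, hne, hd1, hd2, hsum⟩ := D.classes
  have horb : ∀ (T : Set V), (T = T₁ ∨ T = T₂) → ∀ C', C' ≤ C → ∀ c ∈ C', ∀ v ∈ T, c v ∈ T := by
    rintro T (rfl | rfl) C' hC' c hc v hv
    · exact (hinv C hC c (hC' hc) v).1 hv
    · exact (hinv C hC c (hC' hc) v).2 hv
  have h01 : T₁.ncard ≠ 0 := fun h => ((Set.ncard_eq_zero (Set.toFinite _)).1 h).le hv₁
  have h02 : T₂.ncard ≠ 0 := fun h => ((Set.ncard_eq_zero (Set.toFinite _)).1 h).le hv₂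
  constructor
  · rintro rfl
    -- a small class bounds the group
    have small : ∀ T, (T = T₁ ∨ T = T₂) → ∀ v ∈ T, T.ncard ≤ 3 → KB C 12 := fun T hT v hv h3 => by
      have hv1 : v ≠ 1 := hne v (by rcases hT with rfl | rfl <;> simp [hv])
      refine KB.of_card ((card_le_orbit_mul C v T (fun c hc => horb T hT C le_rfl c hc v hv)
        (C ⊓ pointwiseFixer (line4 D v)) fun c hc hcv => ⟨hc, fun y hy => ?_⟩).trans
        ((Nat.mul_le_mul h3 (?_ : _ ≤ 4)).trans (by norm_num)))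
      · have hcb : c (b v) = b v := by rw [← MulAut.mul_apply, (hC.2 c hc).eq, MulAut.mul_apply, hcv]
        rcases hy with rfl | rfl | rfl | rfl <;> simp [hcv, hcb]
      · refine (D.card_fix_le (C := C ⊓ pointwiseFixer (line4 D v)) (card_line4 D hv1) (fun h hh => b_mem_line4 D hh)
          (fun c hc => hC.1 c hc.1) (fun c hc => hC.2 c hc.1) (fun c hc => hc.2)).trans ?_
        decide
    by_cases h1 : T₁.ncard ≤ 3
    · exact small T₁ (Or.inl rfl) v₁ hv₁ h1
    by_cases h2 : T₂.ncard ≤ 3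
    · exact small T₂ (Or.inr rfl) v₂ hv₂ h2
    refine (kb_linewise C (line4 D) (mem_line4 D) (fun v u _ hu => line4_dis D hu) (hne v₁ (Or.inl hv₁))
      (exists_not_mem_line4 D (by norm_num) v₁ (hne v₁ (Or.inl hv₁))) (M := 9) (by norm_num)
      fun x _ v hx C' hC' hC'x => ?_).mono (by rw [card_line4 D (hne v₁ (Or.inl hv₁))]; norm_num)
    obtain ⟨T, hT, hvT, hT9⟩ : ∃ T, (T = T₁ ∨ T = T₂) ∧ v ∈ T ∧ T.ncard ≤ 9 := by
      have hv : v ≠ 1 := fun h => hx (by rw [h, map_one]; exact Subgroup.one_mem _)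
      rcases hcov v hv with h | h
      · exact ⟨T₁, Or.inl rfl, h, by omega⟩
      · exact ⟨T₂, Or.inr rfl, h, by omega⟩
    obtain ⟨K, j, hj4, hjn, hK, hKb, hfix⟩ := three_span D hx
    refine (card_le_orbit_mul C' v T (fun c hc => horb T hT C' hC' c hc v hvT) (C' ⊓ pointwiseFixer K)
      fun c hc hcv => ⟨hc, hfix c (hC.2 c (hC' hc)) (hC'x c hc) hcv⟩).trans
      ((Nat.mul_le_mul hT9 (?_ : _ ≤ 1)).trans (by norm_num))
    refine (D.card_fix_le (C := C' ⊓ pointwiseFixer K) hK hKb (fun c hc => hC.1 c (hC' hc.1)) (fun c hc => hC.2 c (hC' hc.1))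
      (fun c hc => hc.2)).trans ?_
    rw [show j = 4 by omega, Finset.Ico_self, Finset.filter_empty, Finset.prod_empty]
  · rintro rfl
    obtain ⟨T, v, hT, hv, hT5⟩ : ∃ T v, (T = T₁ ∨ T = T₂) ∧ v ∈ T ∧ T.ncard ≤ 5 := by
      by_cases h : T₁.ncard ≤ 5
      · exact ⟨T₁, v₁, Or.inl rfl, hv₁, h⟩
      · exact ⟨T₂, v₂, Or.inr rfl, hv₂, by omega⟩
    have hv1 : v ≠ 1 := hne v (by rcases hT with rfl | rfl <;> simp [hv])
    let K := Subgroup.closure (Set.range fun i : ℕ => (b ^ i) v)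
    have hKb : ∀ h ∈ K, b h ∈ K := fun h hh => by
      induction hh using Subgroup.closure_induction with
      | mem y hy =>
        obtain ⟨i, rfl⟩ := hy
        exact Subgroup.subset_closure ⟨i + 1, by simp only [pow_succ', MulAut.mul_apply]⟩
      | one => rw [map_one]; exact Subgroup.one_mem _
      | mul a d _ _ ha hd => rw [map_mul]; exact Subgroup.mul_mem _ ha hd
      | inv a _ ha => rw [map_inv]; exact Subgroup.inv_mem _ ha
    obtain ⟨j, hjn, hj⟩ := (Nat.dvd_prime_pow Nat.prime_two).1 (D.hV ▸ Subgroup.card_subgroup_dvd_card K)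
    have hJ := D.idx K j hKb hj
    rw [invIdx, Finset.mem_filter] at hJ
    have hj4 : j = 4 := by
      by_contra hj4
      obtain rfl : j = 0 := by interval_cases j <;> simp_all
      have hbot : K = ⊥ := Subgroup.eq_bot_of_card_eq _ (by simpa using hj)
      exact hv1 (Subgroup.mem_bot.1 (hbot ▸ Subgroup.subset_closure ⟨0, by simp⟩))
    refine KB.of_card ((card_le_orbit_mul C v T (fun c hc => horb T hT C le_rfl c hc v hv)
      (C ⊓ pointwiseFixer K) fun c hc hcv => ⟨hc, fun y hy => fix_closure c ?_ hy⟩).trans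
      ((Nat.mul_le_mul hT5 (?_ : _ ≤ 1)).trans (by norm_num)))
    · rintro _ ⟨i, rfl⟩
      show c ((b ^ i) v) = (b ^ i) v
      rw [← MulAut.mul_apply, ((hC.2 c hc).pow_right i).eq, MulAut.mul_apply, hcv]
    · refine (D.card_fix_le (C := C ⊓ pointwiseFixer K) hj hKb (fun c hc => hC.1 c hc.1) (fun c hc => hC.2 c hc.1) (fun c hc => hc.2)).trans ?_
      rw [hj4, Finset.Ico_self, Finset.filter_empty, Finset.prod_empty]

/-- Sixty-four points, order three. -/
theorem kb_fpf_six_three (D : FpfData β 6 3 b) {C : Subgroup (MulAut V)} (hC : FpfGroup β b C) : KB C 254 := by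
  classical
  haveI := finite_aut (V := V)
  obtain ⟨w, hw⟩ : ∃ w : V, w ≠ 1 := by
    haveI : Nontrivial V := Finite.one_lt_card_iff_nontrivial.1 (by rw [D.hV]; norm_num)
    exact exists_ne 1
  refine (kb_linewise C (line4 D) (mem_line4 D) (fun v u _ hu => line4_dis D hu) hw
    (exists_not_mem_line4 D (by norm_num) w hw) (M := 252) (by norm_num) fun x _ v hx C' hC' hC'x => ?_).mono
    (by rw [card_line4 D hw]; norm_num)
  have hv1 : v ≠ 1 := fun h => hx (by rw [h, map_one]; exact Subgroup.one_mem _)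
  obtain ⟨K, j, hj4, hjn, hK, hKb, hfix⟩ := three_span D hx
  refine (card_le_orbit_mul C' v {y | y ≠ 1} (fun c _ h => hv1 ((MulEquiv.map_eq_one_iff c).1 h))
    (C' ⊓ pointwiseFixer K) fun c hc hcv => ⟨hc, hfix c (hC.2 c (hC' hc)) (hC'x c hc) hcv⟩).trans
    ((Nat.mul_le_mul (le_of_eq ?_) (?_ : _ ≤ 4)).trans (le_of_eq (by norm_num : 63 * 4 = 252)))
  · rw [show {y : V | y ≠ 1} = ({1} : Set V)ᶜ from rfl, Set.ncard_compl, Set.ncard_singleton, D.hV]
    norm_num
  · refine (D.card_fix_le (C := C' ⊓ pointwiseFixer K) hK hKb (fun c hc => hC.1 c (hC' hc.1)) (fun c hc => hC.2 c (hC' hc.1))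
      (fun c hc => hc.2)).trans ?_
    interval_cases j <;> decide

/-- Sixty-four points, order seven. -/
theorem kb_fpf_six_seven (D : FpfData β 6 7 b) {C : Subgroup (MulAut V)} (hC : FpfGroup β b C) : KB C 315 := by
  classical
  haveI := finite_aut (V := V)
  intro H'
  let H : Subgroup (MulAut V) := H'.map C.subtype
  have hH : FpfGroup β b H := hC.mono (Subgroup.map_subtype_le H')
  refine (k_le_of_surjective (H'.equivMapOfInjective C.subtype C.subtype_injective).symm.toMonoidHom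
    (H'.equivMapOfInjective C.subtype C.subtype_injective).symm.surjective).trans ?_
  show Nat.card (ConjClasses H) ≤ 315
  have h504 : Nat.card H ≤ 504 := (hH.card_le D).trans (by decide)
  by_cases hab : ∀ a c : H, a * c = c * a
  swap
  · have := five_eighths hab; omega
  refine k_le_card.trans ?_
  obtain ⟨v, hv⟩ : ∃ v : V, v ≠ 1 := by
    haveI : Nontrivial V := Finite.one_lt_card_iff_nontrivial.1 (by rw [D.hV]; norm_num)
    exact exists_ne 1
  let F : Subgroup (MulAut V) :=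
    { carrier := {c | c ∈ H ∧ c v = v}
      one_mem' := ⟨H.one_mem, rfl⟩
      mul_mem' := fun {a c} ha hc => ⟨H.mul_mem ha.1 hc.1, by rw [MulAut.mul_apply, hc.2, ha.2]⟩
      inv_mem' := fun {a} ha => ⟨H.inv_mem ha.1, by conv_lhs => rw [← ha.2, MulAut.inv_apply_self]⟩ }
  let K : Subgroup V :=
    { carrier := {y | ∀ c ∈ F, c y = y}
      one_mem' := fun c _ => map_one c
      mul_mem' := fun {x y} hx hy c hc => by rw [map_mul, hx c hc, hy c hc]
      inv_mem' := fun {x} hx c hc => by rw [map_inv, hx c hc] }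
  have hvK : v ∈ K := fun c hc => hc.2
  have hKb : ∀ h ∈ K, b h ∈ K := fun h hh c hc => by
    rw [← MulAut.mul_apply, (hH.2 c hc.1).eq, MulAut.mul_apply, hh c hc]
  obtain ⟨j, hjn, hj⟩ := (Nat.dvd_prime_pow Nat.prime_two).1 (D.hV ▸ Subgroup.card_subgroup_dvd_card K)
  have hJ := D.idx K j hKb hj
  rw [invIdx, Finset.mem_filter] at hJ
  have horb : ∀ c ∈ H, c v ∈ (K : Set V) \ {1} := fun c hc => ⟨fun f hf => by
    have e : f * c = c * f := congrArg Subtype.val (hab ⟨f, hf.1⟩ ⟨c, hc⟩)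
    rw [← MulAut.mul_apply, e, MulAut.mul_apply, hf.2], fun h => hv ((MulEquiv.map_eq_one_iff c).1 h)⟩
  refine (card_le_orbit_mul H v _ horb F fun c hc hcv => ⟨hc, hcv⟩).trans ?_
  rw [Set.ncard_sdiff_singleton_of_mem K.one_mem, ← Nat.card_coe_set_eq, show Nat.card (K : Set V) = 2 ^ j from hj]
  have hF := D.card_fix_le hj hKb (fun c hc => hH.1 c hc.1) (fun c hc => hH.2 c hc.1) (C := F) (fun c hc y hy => hy c hc)
  refine (Nat.mul_le_mul_left _ hF).trans ?_
  interval_cases j <;> decide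

end CfsgLib.FitMod
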