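import Cfsg.Agent.FitMod.GoodVec
import Mathlib.LinearAlgebra.Prod

/-!
Existence of a vector with an orthogonal stabiliser, by induction on the dimension.
-/

set_option autoImplicit false
set_option linter.style.haveILetI false
set_option linter.unusedSectionVars false

namespace CfsgLib.FitMod

open Module CfsgLib.SolvLinK

universe u v

variable {p : ℕ} [Fact p.Prime] {G : Type u} [Group G] [Finite G] {V : Type v} [AddCommGroup V]
  [Module (ZMod p) V] [Finite V]

theorem good_of_split (π : G →* Module.End (ZMod p) V) {U₁ U₂ : Submodule (ZMod p) V}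
    (h₁ : Invt π U₁) (h₂ : Invt π U₂) (hc : IsCompl U₁ U₂) (g₁ : Good (restrictRep π U₁ h₁))
    (g₂ : Good (restrictRep π U₂ h₂)) : Good π := by
  obtain ⟨v₁, B₁, n₁, i₁⟩ := g₁
  obtain ⟨v₂, B₂, n₂, i₂⟩ := g₂
  let e := Submodule.prodEquivOfIsCompl U₁ U₂ hc
  let q₁ : V →ₗ[ZMod p] U₁ := LinearMap.fst _ _ _ ∘ₗ e.symm.toLinearMap
  let q₂ : V →ₗ[ZMod p] U₂ := LinearMap.snd _ _ _ ∘ₗ e.symm.toLinearMap
  have hg : ∀ g x, e.symm (π g x) = (restrictRep π U₁ h₁ g (q₁ x), restrictRep π U₂ h₂ g (q₂ x)) := fun g x => by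
    refine e.injective ?_
    rw [e.apply_symm_apply, Submodule.coe_prodEquivOfIsCompl', restrictRep_apply, restrictRep_apply, ← map_add]
    congr 1
    exact (Submodule.coe_prodEquivOfIsCompl' U₁ U₂ hc (e.symm x)).symm.trans (e.apply_symm_apply x) |>.symm
  refine ⟨e (v₁, v₂), B₁.comp q₁ q₁ + B₂.comp q₂ q₂, fun x hx => ?_, fun g hgv x y => ?_⟩
  · refine e.symm.map_eq_zero_iff.1 (Prod.ext (n₁ _ fun y => ?_) (n₂ _ fun y => ?_))
    · have := hx (e (y, 0))
      simp only [LinearMap.add_apply, LinearMap.BilinForm.comp_apply, q₁, q₂, LinearMap.comp_apply,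
        LinearEquiv.coe_coe, LinearEquiv.symm_apply_apply, LinearMap.fst_apply, LinearMap.snd_apply, map_zero,
        add_zero] at this
      exact this
    · have := hx (e (0, y))
      simp only [LinearMap.add_apply, LinearMap.BilinForm.comp_apply, q₁, q₂, LinearMap.comp_apply,
        LinearEquiv.coe_coe, LinearEquiv.symm_apply_apply, LinearMap.fst_apply, LinearMap.snd_apply, map_zero,
        zero_add] at this
      exact this
  · have h := congrArg e.symm hgv
    rw [hg, e.symm_apply_apply] at h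
    simp only [q₁, q₂, LinearMap.comp_apply, LinearEquiv.coe_coe, LinearEquiv.symm_apply_apply,
      LinearMap.fst_apply, LinearMap.snd_apply, Prod.mk.injEq] at h
    simp only [LinearMap.add_apply, LinearMap.BilinForm.comp_apply, q₁, q₂, LinearMap.comp_apply,
      LinearEquiv.coe_coe, LinearMap.fst_apply, LinearMap.snd_apply, hg]
    rw [← i₁ g h.1 (e.symm x).1 (e.symm y).1, ← i₂ g h.2 (e.symm x).2 (e.symm y).2]

/-- A vector built from one block. -/
theorem good_of_blocks (π : G →* Module.End (ZMod p) V) (U : Submodule (ZMod p) V) (S : Subgroup G)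
    (hS : Invt (π.comp S.subtype) U) [Fintype (G ⧸ S)]
    (hinj : ∀ u : G ⧸ S → U, ∑ x, π x.out (u x) = 0 → u = 0)
    (hspan : ⨆ g, U.map (π g) = ⊤) (h : Good (restrictRep (π.comp S.subtype) U hS)) : Good π := by
  classical
  obtain ⟨v₀, B₀, n₀, i₀⟩ := h
  let f : (G ⧸ S → U) →ₗ[ZMod p] V :=
    { toFun := fun u => ∑ x, π x.out (u x)
      map_add' := fun u u' => by simp [Finset.sum_add_distrib]
      map_smul' := fun c u => by simp [Finset.smul_sum] }
  let s : G → G ⧸ S → S := fun g x => ⟨(g • x).out⁻¹ * (g * x.out), QuotientGroup.eq.1 (by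
    rw [QuotientGroup.out_eq']
    conv_lhs => rw [← QuotientGroup.out_eq' x]
    rfl)⟩
  have hmove : ∀ g (u : G ⧸ S → U), π g (f u) =
      ∑ x, π (g • x).out (restrictRep (π.comp S.subtype) U hS (s g x) (u x) : V) := fun g u => by
    show π g (∑ x, π x.out (u x)) = _
    rw [map_sum]
    refine Finset.sum_congr rfl fun x _ => ?_
    show π g (π x.out (u x)) = π (g • x).out (π ((g • x).out⁻¹ * (g * x.out)) (u x))
    rw [← Module.End.mul_apply, ← map_mul, ← Module.End.mul_apply, ← map_mul, mul_inv_cancel_left]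
  have hfs : Function.Surjective f := by
    rw [← LinearMap.range_eq_top, eq_top_iff, ← hspan]
    refine iSup_le fun g => ?_
    rintro _ ⟨w, hw, rfl⟩
    let x : G ⧸ S := (g : G ⧸ S)
    have hmem : x.out⁻¹ * g ∈ S := QuotientGroup.eq.1 (QuotientGroup.out_eq' x)
    refine ⟨Pi.single x ⟨π (x.out⁻¹ * g) w, hS ⟨_, hmem⟩ w hw⟩, ?_⟩
    show ∑ y : G ⧸ S, π y.out _ = π g w
    rw [Finset.sum_eq_single x]
    · rw [Pi.single_eq_same]
      show π x.out (π (x.out⁻¹ * g) w) = π g w
      rw [← Module.End.mul_apply, ← map_mul, mul_inv_cancel_left]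
    · intro y _ hy
      rw [Pi.single_eq_of_ne hy]; simp
    · simp
  let F := LinearEquiv.ofBijective f ⟨(injective_iff_map_eq_zero f).2 hinj, hfs⟩
  let coord : G ⧸ S → (V →ₗ[ZMod p] U) := fun x => LinearMap.proj x ∘ₗ F.symm.toLinearMap
  refine ⟨F fun _ => v₀, ∑ x, B₀.comp (coord x) (coord x), fun w hw => ?_, fun g hg w w' => ?_⟩
  · refine F.symm.map_eq_zero_iff.1 (funext fun x => n₀ _ fun y => ?_)
    have h := hw (F (Pi.single x y))
    simp only [LinearMap.sum_apply, LinearMap.BilinForm.comp_apply, coord, LinearMap.comp_apply,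
      LinearEquiv.coe_coe, LinearMap.proj_apply, LinearEquiv.symm_apply_apply] at h
    rw [Finset.sum_eq_single x (fun z _ hz => by rw [Pi.single_eq_of_ne hz, map_zero])
      (fun h' => absurd (Finset.mem_univ _) h'), Pi.single_eq_same] at h
    exact h
  · have key : ∀ u : G ⧸ S → U, F.symm (π g (F u)) =
        fun y => restrictRep (π.comp S.subtype) U hS (s g (g⁻¹ • y)) (u (g⁻¹ • y)) := fun u => by
      refine F.injective ?_
      rw [F.apply_symm_apply]
      show π g (f u) = ∑ y : G ⧸ S, π y.out _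
      rw [hmove]
      exact Fintype.sum_equiv (MulAction.toPerm g) _ _ fun x => by simp
    have hfix : ∀ y, restrictRep (π.comp S.subtype) U hS (s g (g⁻¹ • y)) v₀ = v₀ := fun y => by
      have h := congrFun (key fun _ => v₀) y
      rw [hg, F.symm_apply_apply] at h
      exact h.symm
    obtain ⟨u, rfl⟩ := F.surjective w
    obtain ⟨u', rfl⟩ := F.surjective w'
    simp only [LinearMap.sum_apply, LinearMap.BilinForm.comp_apply, coord, LinearMap.comp_apply,
      LinearEquiv.coe_coe, LinearMap.proj_apply, key, LinearEquiv.symm_apply_apply]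
    rw [← Equiv.sum_comp (MulAction.toPerm g) (fun y => B₀ _ _)]
    refine Finset.sum_congr rfl fun x _ => ?_
    simp only [MulAction.toPerm_apply, inv_smul_smul]
    have := hfix (g • x)
    rw [inv_smul_smul] at this
    exact i₀ _ this (u x) (u' x)

/-- A vector with orthogonal stabiliser. -/
theorem good_of_nilpotent : ∀ (d : ℕ) (G : Type u) [Group G] [Finite G] [Group.IsNilpotent G]
    (V : Type v) [AddCommGroup V] [Module (ZMod p) V] [Finite V] (π : G →* Module.End (ZMod p) V),
    ¬ p ∣ Nat.card G → finrank (ZMod p) V = d → Good π := by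
  intro d
  induction d using Nat.strong_induction_on with
  | _ d ih =>
  intro G _ _ _ V _ _ _ π hp hd
  classical
  haveI : Module.Finite (ZMod p) V := Module.Finite.of_finite
  have hcard : (Nat.card G : ZMod p) ≠ 0 := fun h => hp ((ZMod.natCast_eq_zero_iff (Nat.card G) p).1 h)
  rcases subsingleton_or_nontrivial V with hV | hV
  · exact ⟨0, 0, fun x _ => Subsingleton.elim _ _, fun g _ x y => rfl⟩
  by_cases hirr : IsIrr π
  swap
  · obtain ⟨U₁, hU₁, h1, h2⟩ : ∃ U₁, Invt π U₁ ∧ U₁ ≠ ⊥ ∧ U₁ ≠ ⊤ := by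
      by_contra hc
      push Not at hc
      exact hirr ⟨top_ne_bot, fun U' hU' => or_iff_not_imp_left.2 (hc U' hU')⟩
    obtain ⟨U₂, hU₂, hc⟩ := isCR_of_card_ne_zero π hcard U₁ hU₁
    have h3 : U₂ ≠ ⊤ := fun h => h1 (by
      have := hc.inf_eq_bot
      rwa [h, inf_top_eq] at this)
    exact good_of_split π hU₁ hU₂ hc (ih _ (hd ▸ Submodule.finrank_lt h2) G U₁ _ hp rfl)
      (ih _ (hd ▸ Submodule.finrank_lt h3) G U₂ _ hp rfl)
  -- a faithful irreducible module
  suffices main : ∀ (Q : Type u) [Group Q] [Finite Q] [Group.IsNilpotent Q] (σ : Q →* Module.End (ZMod p) V),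
      ¬ p ∣ Nat.card Q → Function.Injective σ → IsIrr σ → Good σ by
    let K := π.toHomUnits.ker
    let σ : G ⧸ K →* Module.End (ZMod p) V := (Units.coeHom _).comp (QuotientGroup.kerLift π.toHomUnits)
    obtain ⟨w, B, hB, hi⟩ := main (G ⧸ K) σ (fun h => hp (h.trans (Subgroup.card_quotient_dvd_card K)))
      (fun a b h => QuotientGroup.kerLift_injective _ (Units.ext h))
      ⟨hirr.1, fun U hU => hirr.2 U ((invt_comp_surjective (π := π) (QuotientGroup.mk'_surjective K) fun _ => rfl).1 hU)⟩
    exact ⟨w, B, hB, fun g hg => hi (g : G ⧸ K) hg⟩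
  clear hirr hp hcard π
  intro G _ _ _ π hp hinj hirr
  obtain ⟨A, hAn, hAc, hself⟩ := exists_self_centralizing (G := G)
  haveI := hAn
  obtain ⟨E, hE⟩ : ∃ E, E = Algebra.adjoin (ZMod p) (π '' (A : Set G)) := ⟨_, rfl⟩
  have hEA : ∀ a ∈ A, π a ∈ E := fun a ha => hE ▸ Algebra.subset_adjoin ⟨a, ha, rfl⟩
  have hEcomm : ∀ e ∈ E, ∀ e' ∈ E, Commute e e' := by
    intro e he e' he'
    rw [hE] at he he'
    refine Algebra.commute_of_mem_adjoin_of_forall_mem_commute he' fun b hb => (Commute.symm
      (Algebra.commute_of_mem_adjoin_of_forall_mem_commute he fun c hc => ?_))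
    obtain ⟨a, ha, rfl⟩ := hb
    obtain ⟨a', ha', rfl⟩ := hc
    show π a * π a' = π a' * π a
    rw [← map_mul, ← map_mul, hAc a ha a' ha']
  have hEconj : ∀ g : G, ∀ e ∈ E, π g * e * π g⁻¹ ∈ E := by
    intro g e he
    rw [hE] at he ⊢
    induction he using Algebra.adjoin_induction with
    | mem x hx =>
      obtain ⟨a, ha, rfl⟩ := hx
      exact Algebra.subset_adjoin ⟨g * a * g⁻¹, hAn.conj_mem a ha g, by rw [map_mul, map_mul]⟩
    | algebraMap c =>
      rw [← Algebra.commutes, mul_assoc, ← map_mul, mul_inv_cancel, map_one, mul_one]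
      exact Subalgebra.algebraMap_mem _ c
    | add x y _ _ hx hy => rw [mul_add, add_mul]; exact add_mem hx hy
    | mul x y _ _ hx hy =>
      have : π g * (x * y) * π g⁻¹ = (π g * x * π g⁻¹) * (π g * y * π g⁻¹) := by
        simp only [mul_assoc]
        rw [← mul_assoc (π g⁻¹) (π g), ← map_mul, inv_mul_cancel, map_one, one_mul]
      rw [this]
      exact mul_mem hx hy
  obtain ⟨M, -, hM0, hM, hmin⟩ :=
    exists_minimal_invt (π := π.comp A.subtype) (U := ⊤) (fun _ _ _ => Submodule.mem_top) hirr.1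
  let U : Submodule (ZMod p) V :=
    { carrier := {x | ∀ e ∈ E, (∀ m ∈ M, e m = 0) → e x = 0}
      add_mem' := fun {x y} hx hy e he hk => by rw [map_add, hx e he hk, hy e he hk, add_zero]
      zero_mem' := fun e _ _ => map_zero e
      smul_mem' := fun c x hx e he hk => by rw [map_smul, hx e he hk, smul_zero] }
  have hMU : M ≤ U := fun m hm e _ hk => hk m hm
  have hU0 : U ≠ ⊥ := fun h => hM0 (eq_bot_iff.2 (h ▸ hMU))
  have hMinv : ∀ e ∈ E, ∀ m ∈ M, e m ∈ M := by
    intro e he
    rw [hE] at he
    induction he using Algebra.adjoin_induction with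
    | mem x hx =>
      obtain ⟨a, ha, rfl⟩ := hx
      exact fun m hm => hM ⟨a, ha⟩ m hm
    | algebraMap c => exact fun m hm => by rw [Module.algebraMap_end_apply]; exact M.smul_mem c hm
    | add x y _ _ hx hy => exact fun m hm => by rw [LinearMap.add_apply]; exact M.add_mem (hx m hm) (hy m hm)
    | mul x y _ _ hx hy => exact fun m hm => hx _ (hy m hm)
  have hUinj : ∀ e ∈ E, ¬ (∀ m ∈ M, e m = 0) → ∀ x ∈ U, e x = 0 → x = 0 := by
    intro e he hk x hx hex
    have hker : M ⊓ LinearMap.ker e = ⊥ := by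
      refine (hmin _ inf_le_left fun a m hm => ⟨hM a m hm.1, ?_⟩).resolve_right fun h => hk fun m hm => (h.ge hm).2
      show e (π a m) = 0
      rw [← Module.End.mul_apply, (hEcomm e he _ (hEA a a.2)).eq, Module.End.mul_apply, LinearMap.mem_ker.1 hm.2,
        map_zero]
    let r : Module.End (ZMod p) M := e.restrict (hMinv e he)
    have hr : Function.Injective r := (injective_iff_map_eq_zero r).2 fun m hm => Subtype.ext (by
      have : (m : V) ∈ M ⊓ LinearMap.ker e := ⟨m.2, congrArg Subtype.val hm⟩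
      rwa [hker, Submodule.mem_bot] at this)
    haveI : Finite (Module.End (ZMod p) M) := Finite.of_injective
      (fun f : Module.End (ZMod p) M => (f : M → M)) DFunLike.coe_injective
    obtain ⟨i, j, hne, hij⟩ := Finite.exists_ne_map_eq_of_infinite fun i : ℕ => r ^ i
    wlog hlt : i < j generalizing i j
    · exact this j i hne.symm hij.symm (by omega)
    obtain ⟨k, rfl⟩ : ∃ k, j = i + (k + 1) := ⟨j - i - 1, by omega⟩
    have hrk : r ^ (k + 1) = 1 := by
      have hri : Function.Injective ⇑(r ^ i) := by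
        rw [Module.End.coe_pow]; exact hr.iterate i
      refine LinearMap.ext fun m => hri ?_
      rw [← Module.End.mul_apply, ← pow_add, ← hij, Module.End.one_apply]
    have hpow : ∀ i (m : M), ((r ^ i) m : V) = (e ^ i) (m : V) := fun i => by
      induction i with
      | zero => intro m; rfl
      | succ i ih => intro m; rw [pow_succ', pow_succ', Module.End.mul_apply, Module.End.mul_apply, ← ih]; rfl
    have := hx (e ^ (k + 1) - 1) (sub_mem (pow_mem he _) (one_mem _)) fun m hm => by
      rw [LinearMap.sub_apply, Module.End.one_apply, sub_eq_zero, ← hpow _ ⟨m, hm⟩, hrk]; rfl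
    rw [LinearMap.sub_apply, pow_succ, Module.End.mul_apply, hex, map_zero, Module.End.one_apply, zero_sub,
      neg_eq_zero] at this
    exact this
  by_cases hUt : U = ⊤
  · obtain ⟨w, hw⟩ := exists_ne (0 : V)
    refine good_of_homogeneous π hinj A hAc hself E hE (fun e he hne => (injective_iff_map_eq_zero e).2
      fun x hx => hUinj e he (fun hk => hne (LinearMap.ext fun y => ?_)) x (hUt.ge Submodule.mem_top) hx) hw
    exact (hUt.ge (Submodule.mem_top : y ∈ ⊤) : y ∈ U) e he hk
  -- blocks
  have hUE : ∀ e ∈ E, ∀ x ∈ U, e x ∈ U := fun e he x hx f hf hk => by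
    rw [← Module.End.mul_apply, (hEcomm f hf e he).eq, Module.End.mul_apply, hx f hf hk, map_zero]
  let S : Subgroup G :=
    { carrier := {g | ∀ x, π g x ∈ U ↔ x ∈ U}
      one_mem' := fun x => by rw [map_one, Module.End.one_apply]
      mul_mem' := fun {a b} ha hb x => by rw [map_mul, Module.End.mul_apply, ha, hb]
      inv_mem' := fun {a} ha x => by rw [← ha (π a⁻¹ x), rep_apply_inv] }
  haveI : Fintype (G ⧸ S) := Fintype.ofFinite _
  have hsep : ∀ g : G, g ∉ S → ∃ e ∈ E, (∀ x ∈ U, e (π g x) = 0) ∧ ∀ x ∈ U, e x = 0 → x = 0 := by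
    intro g hg
    by_contra hc
    push Not at hc
    haveI : Finite (Module.End (ZMod p) V) := Finite.of_injective
      (fun f : Module.End (ZMod p) V => (f : V → V)) DFunLike.coe_injective
    -- the annihilator of the translate is that of `U`
    let P : Set (Module.End (ZMod p) V) := {e | e ∈ E ∧ ∀ x ∈ U, e x = 0}
    let Pg : Set (Module.End (ZMod p) V) := {e | e ∈ E ∧ ∀ x ∈ U, e (π g x) = 0}
    have hle : Pg ⊆ P := fun e he => ⟨he.1, fun x hx => by
      by_contra hne
      obtain ⟨y, hy, hy0, hy1⟩ := hc e he.1 he.2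
      exact hy1 (hUinj e he.1 (fun hk => hne (hx e he.1 hk)) y hy hy0)⟩
    have heq : Pg = P := Set.eq_of_subset_of_ncard_le hle (Set.ncard_le_ncard_of_injOn
      (fun e => π g * e * π g⁻¹) (fun e he => ⟨hEconj g e he.1, fun x hx => by
        show π g (e (π g⁻¹ (π g x))) = 0
        rw [rep_inv_apply, he.2 x hx, map_zero]⟩)
      (fun e _ e' _ h => by
        have := congrArg (fun f => π g⁻¹ * f * π g) h
        simp only [← mul_assoc, ← map_mul, inv_mul_cancel, map_one, one_mul] at this
        simpa only [mul_assoc, ← map_mul, inv_mul_cancel, map_one, mul_one] using this))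
    have hsub : U.map (π g) ≤ U := by
      rintro _ ⟨x, hx, rfl⟩ e he hk
      have : e ∈ Pg := heq.ge ⟨he, fun y hy => hy e he hk⟩
      exact this.2 x hx
    have heqU := Submodule.eq_of_le_of_finrank_eq hsub
      (Submodule.equivMapOfInjective (π g) (rep_injective π g) U).finrank_eq.symm
    refine hg fun x => ⟨fun hx => ?_, fun hx => hsub ⟨x, hx, rfl⟩⟩
    obtain ⟨y, hy, hyx⟩ := heqU.ge hx
    rwa [← rep_injective π g hyx]
  have hinjB : ∀ u : G ⧸ S → U, ∑ x, π x.out (u x) = 0 → u = 0 := by
    suffices hs : ∀ (s : Finset (G ⧸ S)) (u : G ⧸ S → U), ∑ x ∈ s, π x.out (u x) = 0 → ∀ x ∈ s, u x = 0 from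
      fun u hu => funext fun x => hs Finset.univ u hu x (Finset.mem_univ x)
    intro s
    induction s using Finset.induction with
    | empty => simp
    | @insert j s hj ihs =>
      intro u hu
      rw [Finset.sum_insert hj] at hu
      have hs0 : ∀ x ∈ s, u x = 0 := by
        intro i hi
        obtain ⟨e, he, hkill, hinje⟩ := hsep (i.out⁻¹ * j.out) fun h => hj (by
          have := QuotientGroup.eq.2 h
          rw [QuotientGroup.out_eq', QuotientGroup.out_eq'] at this
          exact this ▸ hi)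
        let f := π i.out * e * π i.out⁻¹
        have hf : ∀ l : G ⧸ S, ∀ x ∈ U, ∃ y ∈ U, f (π l.out x) = π l.out y := fun l x hx => by
          refine ⟨(π l.out⁻¹ * f * π l.out) x, ?_, ?_⟩
          · have h' := hEconj l.out⁻¹ f (hEconj i.out e he)
            rw [inv_inv] at h'
            exact hUE _ h' x hx
          · rw [show (π l.out⁻¹ * f * π l.out) x = π l.out⁻¹ (f (π l.out x)) from rfl, rep_apply_inv]
        choose y hy hfy using hf
        have h1 := congrArg f hu
        rw [map_add, map_sum, map_zero] at h1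
        have h2 : f (π j.out (u j)) = 0 := by
          show π i.out (e (π i.out⁻¹ (π j.out (u j : V)))) = 0
          rw [← Module.End.mul_apply (π i.out⁻¹), ← map_mul, hkill _ (u j).2, map_zero]
        rw [h2, zero_add] at h1
        have h3 := ihs (fun l => ⟨y l _ (u l).2, hy l _ (u l).2⟩)
          (by rw [← h1]; exact Finset.sum_congr rfl fun l _ => (hfy l _ (u l).2).symm) i hi
        have h4 : f (π i.out (u i)) = 0 := by
          rw [hfy i _ (u i).2]
          rw [show y i _ (u i).2 = 0 from congrArg Subtype.val h3, map_zero]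
        refine Subtype.ext (hinje _ (u i).2 (rep_injective π i.out ?_))
        rw [map_zero, ← h4]
        show π i.out (e (u i)) = π i.out (e (π i.out⁻¹ (π i.out (u i : V))))
        rw [rep_inv_apply]
      intro x hx
      rcases Finset.mem_insert.1 hx with rfl | hx
      · rw [Finset.sum_eq_zero (fun l hl => by rw [hs0 l hl, Submodule.coe_zero, map_zero]), add_zero] at hu
        exact Subtype.ext ((map_eq_zero_iff _ (rep_injective π _)).1 hu)
      · exact hs0 x hx
  have hSU : Invt (π.comp S.subtype) U := fun g x hx => (g.2 x).2 hx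
  exact good_of_blocks π U S hSU hinjB (hirr.span_translates hU0)
    (ih _ (hd ▸ Submodule.finrank_lt hUt) S U _ (fun h => hp (h.trans S.card_subgroup_dvd_card)) rfl)

end CfsgLib.FitMod
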