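import Cfsg.Agent.FitMod.Primitive
import Cfsg.Agent.SolvLinK.Main

/-!
Completely reducible solvable linear groups modulo the Fitting subgroup.
-/

set_option autoImplicit false
set_option linter.style.haveILetI false
set_option linter.unusedSectionVars false

namespace CfsgLib.FitMod

open Module CfsgLib.SolvLinK

universe u v w

variable {k : Type w} [Field k] [IsAlgClosed k]

/-- The bound for the image of a completely reducible representation. -/
theorem fb_image {d : ℕ} (ih : FBBelow.{u, v, w} k d) {H : Type u} [Group H] [Finite H] {U : Type v}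
    [AddCommGroup U] [Module k U] [FiniteDimensional k U] (hH : Group.IsSolvable H) (ρ : H →* Module.End k U)
    (hcr : IsCR ρ) (hdim : finrank k U < d) : FB (H ⧸ ρ.toHomUnits.ker) (finrank k U) := by
  haveI := hH
  refine ih _ hdim (H ⧸ ρ.toHomUnits.ker) U ((Units.coeHom _).comp (QuotientGroup.kerLift ρ.toHomUnits))
    ?_ (Group.isSolvable_of_surjective (QuotientGroup.mk'_surjective _))
    (hcr.of_surjective (QuotientGroup.mk'_surjective _) fun _ => rfl) rfl
  intro a b h
  exact QuotientGroup.kerLift_injective _ (Units.ext h)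

theorem perm_card_le {t : ℕ} {T : ℕ} (h : T ^ 3 ≤ 24 ^ (t - 1)) : T ≤ 3 ^ (t - 1) := by
  refine (Nat.pow_le_pow_iff_left (n := 3) (by norm_num)).1 (h.trans ?_)
  rw [← pow_mul, mul_comm, pow_mul]
  exact Nat.pow_le_pow_left (by norm_num) _

theorem irreducible_fit {G : Type u} [Group G] [Finite G] {W : Type v} [AddCommGroup W] [Module k W]
    [FiniteDimensional k W] (π : G →* Module.End k W) (hinj : Function.Injective π) (hsol : Group.IsSolvable G)
    (hirr : IsIrr π) {d : ℕ} (hd : finrank k W = d) (ih : FBBelow.{u, v, w} k d) : FB G d := by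
  classical
  have hd1 : 1 ≤ d := by
    obtain ⟨v, -, hv⟩ := (Submodule.ne_bot_iff _).1 hirr.1
    haveI : Nontrivial W := ⟨⟨v, 0, hv⟩⟩
    rw [← hd]; exact Module.finrank_pos
  rcases hd1.eq_or_lt with rfl | hd2
  · refine fb_of_comm fun a b => hinj ?_
    obtain ⟨e, he, hsp⟩ := finrank_eq_one_iff'.1 hd
    rw [map_mul, map_mul]
    refine LinearMap.ext fun x => ?_
    obtain ⟨cx, rfl⟩ := hsp x
    obtain ⟨ca, hca⟩ := hsp (π a e)
    obtain ⟨cb, hcb⟩ := hsp (π b e)
    simp only [Module.End.mul_apply, map_smul, ← hca, ← hcb, smul_smul]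
    ring_nf
  by_cases hsc : ∀ A : Subgroup G, A.Normal → (∀ a ∈ A, ∀ b ∈ A, a * b = b * a) →
      ∀ a ∈ A, ∃ c : k, π a = c • (1 : Module.End k W)
  · exact primitive_fit π hinj hsol hirr hsc hd hd2 ih
  push Not at hsc
  obtain ⟨A, hA, hAc, a₀, ha₀, hns⟩ := hsc
  haveI := hA
  obtain ⟨v, hv0, hvA⟩ := exists_common_eigvec (π := π.comp A.subtype) hirr.1 fun a c => by
    rw [← map_mul, ← map_mul]
    exact congrArg _ (Subtype.ext (hAc a a.2 c c.2))
  obtain ⟨Λ, hΛ⟩ := exists_eigHom (π.comp A.subtype) hv0 hvA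
  let lam : G → k := fun a => if h : a ∈ A then (Λ ⟨a, h⟩ : k) else 0
  have hlam : ∀ (a : G) (h : a ∈ A), lam a = (Λ ⟨a, h⟩ : k) := fun a h => dif_pos h
  set W₀ := eigS π A lam with hW₀
  have hvmem : v ∈ W₀ := fun a ha => by rw [hlam a ha]; exact hΛ ⟨a, ha⟩
  have h0 : W₀ ≠ ⊥ := (Submodule.ne_bot_iff _).2 ⟨v, hvmem, hv0⟩
  have hspan := hirr.span_translates h0
  set S := valStab A lam with hS
  haveI : Fintype (G ⧸ S) := Fintype.ofFinite _
  have hdim := finrank_blocks π A lam hspan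
  rw [hd] at hdim
  set t := S.index with ht
  set b := finrank k W₀ with hb
  have hb1 : 1 ≤ b := by
    by_contra h
    rw [show b = 0 by omega, mul_zero] at hdim
    omega
  have ht2 : 2 ≤ t := by
    by_contra h
    have htop : S = ⊤ := Subgroup.index_eq_one.1 (by have : t ≠ 0 := Subgroup.index_ne_zero_of_finite; omega)
    have hinv : Invt π W₀ := fun g x hx => invt_eigS π A lam ⟨g, htop.ge (Subgroup.mem_top g)⟩ x hx
    refine hns (lam a₀) (LinearMap.ext fun x => ?_)
    exact ((hirr.2 _ hinv).resolve_left h0).ge (Submodule.mem_top : x ∈ ⊤) a₀ ha₀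
  haveI := hsol
  let φ : G →* Equiv.Perm (G ⧸ S) := MulAction.toPermHom G (G ⧸ S)
  have hker : φ.ker = S.normalCore := (Subgroup.normalCore_eq_ker S).symm
  have hT := perm_card_le (perm_bound t (G ⧸ S) rfl φ.range
    (Group.isSolvable_of_surjective φ.rangeRestrict_surjective)).1
  -- the image of the stabiliser on its block
  let ρS : S →* Module.End k W₀ := restrictRep (π.comp S.subtype) W₀ (invt_eigS π A lam)
  haveI : Group.IsSolvable S := Group.isSolvable_of_isSolvable_injective S.subtype_injective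
  have hirrS := isIrr_block π A lam hirr h0
  have hcrS : IsCR ρS := fun U hU => (hirrS.2 U hU).elim
    (fun h => ⟨⊤, fun _ _ _ => Submodule.mem_top, h ▸ isCompl_bot_top⟩)
    fun h => ⟨⊥, fun g x hx => by rw [Submodule.mem_bot] at hx ⊢; rw [hx, map_zero],
      h ▸ isCompl_top_bot⟩
  have hQ : FB (S ⧸ ρS.toHomUnits.ker) b := fb_image ih inferInstance ρS hcrS (by
    show b < d
    rw [hdim]; nlinarith)
  let p : S →* (S ⧸ ρS.toHomUnits.ker) := QuotientGroup.mk' _
  let F := Cfsg.fittingSubgroup (S ⧸ ρS.toHomUnits.ker)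
  haveI : Group.IsNilpotent F := CfsgLib.Solvable.isNilpotent_fittingSubgroup
  haveI : (F.comap p).Normal := Subgroup.Normal.comap inferInstance _
  let N : Subgroup G := ((F.comap p).map S.subtype).normalCore
  haveI : N.Normal := Subgroup.normalCore_normal _
  have hcore : ∀ (n : S.normalCore) (x : G ⧸ S), x.out⁻¹ * (n : G) * x.out ∈ S.normalCore := fun n x => by
    simpa using (Subgroup.normalCore_normal S).conj_mem _ n.2 x.out⁻¹
  let ι : S.normalCore →* (G ⧸ S → S ⧸ ρS.toHomUnits.ker) :=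
    MonoidHom.mk' (fun n x => p ⟨_, S.normalCore_le (hcore n x)⟩) fun n n' => funext fun x => by
      rw [Pi.mul_apply, ← map_mul]
      exact congrArg _ (Subtype.ext (by simp [mul_assoc]))
  have hι : Function.Injective ι := by
    refine (injective_iff_map_eq_one ι).2 fun n hn => Subtype.ext (hinj ?_)
    show π (n : G) = π 1
    rw [map_one]
    refine eq_one_of_fix_blocks π A lam hspan fun x y hy => ?_
    have h1 := MonoidHom.mem_ker.1 ((QuotientGroup.eq_one_iff _).1 (congrFun hn x))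
    have h2 : π (x.out⁻¹ * (n : G) * x.out) y = y :=
      congrArg Subtype.val (LinearMap.congr_fun (congrArg Units.val h1) ⟨y, hy⟩)
    rw [rep_conj_apply, h2]
  have hNcore : N ≤ S.normalCore := Subgroup.normalCore_mono (Subgroup.map_subtype_le _)
  have hNF : ∀ (n : N) (x : G ⧸ S), ι ⟨n, hNcore n.2⟩ x ∈ F := fun n x => by
    have h1 : x.out⁻¹ * (n : G) * x.out ∈ (F.comap p).map S.subtype := by
      have := n.2 x.out⁻¹
      rwa [inv_inv] at this
    obtain ⟨s, hs, he⟩ := h1
    have : s = (⟨_, S.normalCore_le (hcore ⟨n, hNcore n.2⟩ x)⟩ : S) := Subtype.ext he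
    show p ⟨_, S.normalCore_le (hcore ⟨n, hNcore n.2⟩ x)⟩ ∈ F
    rw [← this]
    exact hs
  have hNnil : Group.IsNilpotent N :=
    nilpotent_of_injective (G' := G ⧸ S → F)
      (MonoidHom.mk' (fun (n : N) x => (⟨ι ⟨n, hNcore n.2⟩ x, hNF n x⟩ : F)) fun n n' => funext fun x =>
        Subtype.ext (congrFun (map_mul ι ⟨n, hNcore n.2⟩ ⟨n', hNcore n'.2⟩) x))
      fun n n' h => Subtype.ext (congrArg (fun z : S.normalCore => (z : G))
        (hι (a₁ := ⟨n, hNcore n.2⟩) (a₂ := ⟨n', hNcore n'.2⟩) (funext fun x => congrArg Subtype.val (congrFun h x))))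
  refine fb_of_normal N hNnil ?_
  -- the base group modulo the nilpotent part
  let ψ : φ.ker →* (G ⧸ S → (S ⧸ ρS.toHomUnits.ker) ⧸ F) :=
    (MonoidHom.compLeft (QuotientGroup.mk' F) (G ⧸ S)).comp (ι.comp (Subgroup.inclusion hker.le))
  let θ : φ.ker →* G ⧸ N := (QuotientGroup.mk' N).comp φ.ker.subtype
  have hψ : ψ.ker ≤ θ.ker := by
    intro n hn
    refine (QuotientGroup.eq_one_iff _).2 fun g => ?_
    -- the coset of `g⁻¹` carries `n` into the preimage of the Fitting subgroup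
    let x : G ⧸ S := (g⁻¹ : G)
    have hs : x.out⁻¹ * g⁻¹ ∈ S := QuotientGroup.eq.1 (QuotientGroup.out_eq' x)
    have hy : (⟨_, S.normalCore_le (hcore (Subgroup.inclusion hker.le n) x)⟩ : S) ∈ F.comap p :=
      (QuotientGroup.eq_one_iff (N := F) (p ⟨_, S.normalCore_le (hcore (Subgroup.inclusion hker.le n) x)⟩)).1
        (congrFun hn x)
    have := (‹(F.comap p).Normal›).conj_mem _ hy (⟨_, hs⟩ : S)⁻¹
    refine ⟨_, this, ?_⟩
    show (x.out⁻¹ * g⁻¹)⁻¹ * (x.out⁻¹ * (n : G) * x.out) * (x.out⁻¹ * g⁻¹)⁻¹⁻¹ = g * (n : G) * g⁻¹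
    group
  have hθ : θ.range = φ.rangeRestrict.ker.map (QuotientGroup.mk' N) := by
    rw [MonoidHom.ker_rangeRestrict, MonoidHom.range_comp, Subgroup.range_subtype]
  have hP : KB (G ⧸ S → (S ⧸ ρS.toHomUnits.ker) ⧸ F) ((3 ^ (b - 1)) ^ Fintype.card (G ⧸ S)) := KB.pi hQ
  have hk : KB (φ.rangeRestrict.ker.map (QuotientGroup.mk' N)) ((3 ^ (b - 1)) ^ Fintype.card (G ⧸ S)) :=
    hθ ▸ hP.image ψ θ hψ
  refine (kb_quot φ.rangeRestrict N (by rw [MonoidHom.ker_rangeRestrict, hker]; exact hNcore) hk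
    (KB.of_card hT)).mono ?_
  rw [← Nat.card_eq_fintype_card, show Nat.card (G ⧸ S) = t from rfl, ← pow_mul, ← pow_add, hdim]
  refine Nat.pow_le_pow_right (by norm_num) ?_
  obtain ⟨c, hc⟩ : ∃ c, b = c + 1 := ⟨b - 1, by omega⟩
  obtain ⟨r, hr⟩ : ∃ r, t = r + 1 := ⟨t - 1, by omega⟩
  rw [hc, hr, Nat.add_sub_cancel, Nat.add_sub_cancel]
  have : (r + 1) * (c + 1) = c * (r + 1) + r + 1 := by ring
  omega

/-- Completely reducible solvable groups. -/
theorem cr_fit : ∀ d, FBBelow.{u, v, w} k d := by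
  intro d
  induction d with
  | zero => intro m hm; omega
  | succ d ih =>
    intro m hm H _ _ U _ _ _ σ hσ hsol hcr hdim
    rcases (Nat.lt_succ_iff.1 hm).lt_or_eq with h | rfl
    · exact ih m h H U σ hσ hsol hcr hdim
    rcases Nat.eq_zero_or_pos m with rfl | hm1
    · haveI : Subsingleton U := Module.finrank_zero_iff.1 hdim
      exact fb_of_comm fun a b => hσ (LinearMap.ext fun x => Subsingleton.elim _ _)
    by_cases hirr : IsIrr σ
    · exact irreducible_fit σ hσ hsol hirr hdim ih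
    have htop : (⊤ : Submodule k U) ≠ ⊥ := fun h => by
      have := finrank_top k U
      rw [h, finrank_bot] at this
      omega
    obtain ⟨U₁, hU₁, h1, h2⟩ : ∃ U₁, Invt σ U₁ ∧ U₁ ≠ ⊥ ∧ U₁ ≠ ⊤ := by
      by_contra hc
      push Not at hc
      exact hirr ⟨htop, fun U' hU' => or_iff_not_imp_left.2 (hc U' hU')⟩
    obtain ⟨U₂, hU₂, hc⟩ := hcr U₁ hU₁
    have hsum := Submodule.finrank_add_eq_of_isCompl hc
    rw [hdim] at hsum
    have ha : 1 ≤ finrank k U₁ := Submodule.one_le_finrank_iff.2 h1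
    have hb : 1 ≤ finrank k U₂ := Submodule.one_le_finrank_iff.2 fun h => h2 (by
      have := hc.sup_eq_top
      rwa [h, sup_bot_eq] at this)
    have q1 := fb_image ih hsol _ (hcr.restrict hU₁) (show finrank k U₁ < m by omega)
    have q2 := fb_image ih hsol _ (hcr.restrict hU₂) (show finrank k U₂ < m by omega)
    let f₁ := (restrictRep σ U₁ hU₁).toHomUnits
    let f₂ := (restrictRep σ U₂ hU₂).toHomUnits
    let ι : H →* (H ⧸ f₁.ker) × (H ⧸ f₂.ker) := (QuotientGroup.mk' _).prod (QuotientGroup.mk' _)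
    have hι : Function.Injective ι := by
      refine (injective_iff_map_eq_one ι).2 fun g hg => hσ ?_
      rw [map_one]
      have e1 := MonoidHom.mem_ker.1 ((QuotientGroup.eq_one_iff g).1 (congrArg Prod.fst hg))
      have e2 := MonoidHom.mem_ker.1 ((QuotientGroup.eq_one_iff g).1 (congrArg Prod.snd hg))
      refine LinearMap.ext fun x => ?_
      obtain ⟨y, hy, z, hz, rfl⟩ := Submodule.mem_sup.1 (show x ∈ U₁ ⊔ U₂ by rw [hc.sup_eq_top]; trivial)
      have hy' : σ g y = y := congrArg Subtype.val (LinearMap.congr_fun (congrArg Units.val e1) ⟨y, hy⟩)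
      have hz' : σ g z = z := congrArg Subtype.val (LinearMap.congr_fun (congrArg Units.val e2) ⟨z, hz⟩)
      rw [map_add, hy', hz']
      rfl
    haveI : Group.IsNilpotent (Cfsg.fittingSubgroup (H ⧸ f₁.ker)) := CfsgLib.Solvable.isNilpotent_fittingSubgroup
    haveI : Group.IsNilpotent (Cfsg.fittingSubgroup (H ⧸ f₂.ker)) := CfsgLib.Solvable.isNilpotent_fittingSubgroup
    let ψ : H →* ((H ⧸ f₁.ker) ⧸ Cfsg.fittingSubgroup (H ⧸ f₁.ker)) × ((H ⧸ f₂.ker) ⧸ Cfsg.fittingSubgroup (H ⧸ f₂.ker)) :=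
      ((QuotientGroup.mk' _).comp (QuotientGroup.mk' _)).prod ((QuotientGroup.mk' _).comp (QuotientGroup.mk' _))
    refine fb_of_normal ψ.ker ?_ ?_
    · refine nilpotent_of_injective
        (G' := Cfsg.fittingSubgroup (H ⧸ f₁.ker) × Cfsg.fittingSubgroup (H ⧸ f₂.ker))
        (MonoidHom.mk' (fun g : ψ.ker => (⟨(ι (g : H)).1, (QuotientGroup.eq_one_iff _).1 (congrArg Prod.fst g.2)⟩,
          ⟨(ι (g : H)).2, (QuotientGroup.eq_one_iff _).1 (congrArg Prod.snd g.2)⟩))
          fun g g' => Prod.ext (Subtype.ext (congrArg Prod.fst (map_mul ι (g : H) g') :))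
            (Subtype.ext (congrArg Prod.snd (map_mul ι (g : H) g') :))) fun g g' e => Subtype.ext (hι ?_)
      exact Prod.ext (congrArg Subtype.val (congrArg Prod.fst e)) (congrArg Subtype.val (congrArg Prod.snd e))
    · refine ((q1.prod q2).of_injective (QuotientGroup.kerLift ψ) (QuotientGroup.kerLift_injective ψ)).mono ?_
      rw [← pow_add]
      exact Nat.pow_le_pow_right (by norm_num) (by omega)

end CfsgLib.FitMod
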