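import Cfsg.Agent.S4959
import Cfsg.Agent.FitMod.GoodMain
import Mathlib.GroupTheory.SchurZassenhaus

/-!
The class number of a coprime extension of an elementary abelian group by a nilpotent group.
-/

set_option autoImplicit false
set_option linter.style.haveILetI false
set_option linter.unusedSectionVars false

namespace CfsgLib.FitMod

open Module

universe u

theorem classes_le_card_of_nilpotent {X : Type u} [Group X] [Finite X] {p : ℕ} [Fact p.Prime] (V : Subgroup X)
    [hV : V.Normal] (hc : ∀ a ∈ V, ∀ b ∈ V, a * b = b * a) (hexp : ∀ v ∈ V, v ^ p = 1)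
    (hidx : ¬ p ∣ V.index) (hself : Subgroup.centralizer (V : Set X) = V) (hnil : Group.IsNilpotent (X ⧸ V)) :
    Nat.card (ConjClasses X) ≤ Nat.card V := by
  classical
  have hVp : IsPGroup p V := fun v => ⟨1, Subtype.ext (by
    rw [Subgroup.coe_pow, pow_one, hexp v v.2, Subgroup.coe_one])⟩
  obtain ⟨a, ha⟩ := IsPGroup.iff_card.1 hVp
  obtain ⟨H, hH⟩ := Subgroup.exists_right_complement'_of_coprime (N := V)
    (ha ▸ ((Fact.out : p.Prime).coprime_iff_not_dvd.2 hidx).pow_left a)
  have hHcard : Nat.card H = V.index := hH.symm.index_eq_card.symm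
  let e : H →* X ⧸ V := (QuotientGroup.mk' V).comp H.subtype
  have he : Function.Injective e := (injective_iff_map_eq_one e).2 fun h hh => Subtype.ext (by
    have : (h : X) ∈ V ⊓ H := ⟨(QuotientGroup.eq_one_iff _).1 hh, h.2⟩
    rwa [hH.disjoint.eq_bot, Subgroup.mem_bot] at this)
  haveI := hnil
  haveI : Group.IsNilpotent H := Group.nilpotent_of_mulEquiv (MonoidHom.ofInjective he).symm
  letI : CommGroup V := { (inferInstance : Group V) with mul_comm := fun a b => Subtype.ext (hc a a.2 b b.2) }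
  haveI : Module (ZMod p) (Additive V) := AddCommGroup.zmodModule fun x => by
    refine Additive.toMul.injective (Subtype.ext ?_)
    rw [toMul_nsmul, Subgroup.coe_pow, toMul_zero, Subgroup.coe_one]
    exact hexp _ (Additive.toMul x).2
  let π : H →* Module.End (ZMod p) (Additive V) :=
    { toFun := fun h => (MonoidHom.toAdditive (MulAut.conjNormal (h : X) : MulAut V).toMonoidHom).toZModLinearMap p
      map_one' := LinearMap.ext fun x => by
        show Additive.ofMul ((MulAut.conjNormal (1 : X) : MulAut V) (Additive.toMul x)) = x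
        rw [map_one]; rfl
      map_mul' := fun h h' => LinearMap.ext fun x => by
        show Additive.ofMul ((MulAut.conjNormal ((h : X) * h') : MulAut V) (Additive.toMul x)) =
          Additive.ofMul ((MulAut.conjNormal (h : X) : MulAut V) ((MulAut.conjNormal (h' : X) : MulAut V) (Additive.toMul x)))
        rw [map_mul]; rfl }
  have hπ : ∀ (h : H) (x : V), ((Additive.toMul (π h (Additive.ofMul x)) : V) : X) = h * x * (h : X)⁻¹ :=
    fun h x => MulAut.conjNormal_apply (h : X) x
  obtain ⟨w, B, hB, hinv⟩ := good_of_nilpotent (p := p) _ H (Additive V) π (hHcard ▸ hidx) rfl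
  let β : X → X → ZMod p := fun x y => if h : x ∈ V ∧ y ∈ V then
    B (Additive.ofMul ⟨x, h.1⟩) (Additive.ofMul ⟨y, h.2⟩) else 0
  have hβ : ∀ x (hx : x ∈ V) y (hy : y ∈ V), β x y = B (Additive.ofMul ⟨x, hx⟩) (Additive.ofMul ⟨y, hy⟩) :=
    fun x hx y hy => dif_pos ⟨hx, hy⟩
  refine Cfsg.Agent.S4959.result p V hexp hidx hself H hH ((Additive.toMul w : V) : X) (Additive.toMul w).2 V
    le_rfl (fun h _ _ u hu => hV.conj_mem u hu h) (fun h hh _ hfix => ?_) β ?_ ?_ ?_ ?_
  · have hmem : h ∈ Subgroup.centralizer (V : Set X) := fun u hu => (mul_inv_eq_iff_eq_mul.1 (hfix u hu)).symm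
    rw [hself] at hmem
    have : h ∈ V ⊓ H := ⟨hmem, hh⟩
    rwa [hH.disjoint.eq_bot, Subgroup.mem_bot] at this
  · intro u hu u' hu' z hz
    rw [hβ _ (V.mul_mem hu hu') _ hz, hβ _ hu _ hz, hβ _ hu' _ hz,
      show Additive.ofMul (⟨u * u', V.mul_mem hu hu'⟩ : V) = Additive.ofMul ⟨u, hu⟩ + Additive.ofMul ⟨u', hu'⟩ from rfl,
      map_add, LinearMap.add_apply]
  · intro u hu z hz z' hz'
    rw [hβ _ hu _ (V.mul_mem hz hz'), hβ _ hu _ hz, hβ _ hu _ hz',
      show Additive.ofMul (⟨z * z', V.mul_mem hz hz'⟩ : V) = Additive.ofMul ⟨z, hz⟩ + Additive.ofMul ⟨z', hz'⟩ from rfl,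
      map_add]
  · intro h hh hfix u hu z hz
    have hw : π ⟨h, hh⟩ w = w := Additive.toMul.injective (Subtype.ext ((hπ ⟨h, hh⟩ (Additive.toMul w)).trans hfix))
    have e : ∀ (u : X) (hu : u ∈ V), Additive.ofMul (⟨h * u * h⁻¹, hV.conj_mem u hu h⟩ : V) =
        π ⟨h, hh⟩ (Additive.ofMul ⟨u, hu⟩) := fun u hu =>
      Additive.toMul.injective (Subtype.ext (hπ ⟨h, hh⟩ ⟨u, hu⟩).symm)
    rw [hβ _ (hV.conj_mem u hu h) _ (hV.conj_mem z hz h), hβ _ hu _ hz, e, e, hinv _ hw]
  · intro u hu hall
    have h := hB (Additive.ofMul ⟨u, hu⟩) fun y => by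
      rw [← hall ((Additive.toMul y : V) : X) (Additive.toMul y).2, hβ _ hu _ (Additive.toMul y).2]
      rfl
    exact congrArg Subtype.val (congrArg Additive.toMul h)

end CfsgLib.FitMod
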