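import Cfsg.Agent.FitMod.Binary
import Cfsg.Agent.SolvLinK.Arith

/-!
Class numbers of all subgroups of a solvable irreducible group of isometries.
-/

set_option autoImplicit false
set_option linter.style.haveILetI false
set_option linter.unusedSectionVars false

namespace CfsgLib.FitMod

open CfsgLib.SolvLinK

universe u

theorem line_arith : ∀ {q : ℕ}, 5 ≤ q → q + q ^ 2 ≤ 3 ^ (q - 1) := by
  intro q hq
  induction q, hq using Nat.le_induction with
  | base => norm_num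
  | succ q hq ih =>
    rw [show q + 1 - 1 = (q - 1) + 1 by omega, pow_succ 3]
    nlinarith

theorem exp_arith_two : ∀ {n : ℕ}, 6 ≤ n → 2 * (n * (2 * n + 1)) ≤ 3 * (2 ^ n - 1) := by
  intro n hn
  suffices 2 * (n * (2 * n + 1)) + 3 ≤ 3 * 2 ^ n by omega
  induction n, hn using Nat.le_induction with
  | base => norm_num
  | succ n hn ih => rw [pow_succ 2 n]; nlinarith

theorem exp_arith_three : ∀ {n : ℕ}, 3 ≤ n → n * (2 * n + 1) ≤ 3 ^ n - 1 := by
  intro n hn
  suffices n * (2 * n + 1) + 1 ≤ 3 ^ n by omega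
  induction n, hn using Nat.le_induction with
  | base => norm_num
  | succ n hn ih => rw [pow_succ 3 n]; nlinarith

theorem exp_arith_large {q : ℕ} (hq : 5 ≤ q) : ∀ {n : ℕ}, 2 ≤ n → q * (n * (2 * n + 1)) + 3 ≤ 3 * q ^ n := by
  intro n hn
  induction n, hn using Nat.le_induction with
  | base => nlinarith
  | succ n hn ih =>
    rw [pow_succ q n]
    have h1 : (n + 1) * (2 * (n + 1) + 1) + 3 ≤ 5 * (n * (2 * n + 1)) := by nlinarith
    nlinarith [Nat.mul_le_mul_left q ih, Nat.mul_le_mul_left q h1, Nat.mul_le_mul_right (q * (n * (2 * n + 1))) hq]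

/-- The symplectic order bound is small beyond finitely many cases. -/
theorem pow_symp_le {q n : ℕ} (hq : q.Prime) (h : (q = 2 ∧ 6 ≤ n) ∨ (q = 3 ∧ 3 ≤ n) ∨ (5 ≤ q ∧ 2 ≤ n)) :
    q ^ (n * (2 * n + 1)) ≤ 3 ^ (q ^ n - 1) := by
  rcases h with ⟨rfl, hn⟩ | ⟨rfl, hn⟩ | ⟨hq5, hn⟩
  · refine (Nat.pow_le_pow_iff_left (n := 3) (by norm_num)).1 ?_
    calc (2 ^ (n * (2 * n + 1))) ^ 3 = (2 ^ 3) ^ (n * (2 * n + 1)) := by rw [← pow_mul, ← pow_mul, mul_comm]
      _ ≤ (3 ^ 2) ^ (n * (2 * n + 1)) := Nat.pow_le_pow_left (by norm_num) _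
      _ = 3 ^ (2 * (n * (2 * n + 1))) := (pow_mul _ _ _).symm
      _ ≤ 3 ^ (3 * (2 ^ n - 1)) := Nat.pow_le_pow_right (by norm_num) (exp_arith_two hn)
      _ = (3 ^ (2 ^ n - 1)) ^ 3 := by rw [mul_comm, pow_mul]
  · exact Nat.pow_le_pow_right (by norm_num) (exp_arith_three hn)
  · refine (Nat.pow_le_pow_iff_left (n := 3) (by norm_num)).1 ?_
    calc (q ^ (n * (2 * n + 1))) ^ 3 = (q ^ 3) ^ (n * (2 * n + 1)) := by rw [← pow_mul, ← pow_mul, mul_comm]
      _ ≤ (3 ^ q) ^ (n * (2 * n + 1)) := Nat.pow_le_pow_left (cube_le_three_pow (by omega)) _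
      _ = 3 ^ (q * (n * (2 * n + 1))) := (pow_mul _ _ _).symm
      _ ≤ 3 ^ (3 * (q ^ n - 1)) := Nat.pow_le_pow_right (by norm_num) (by
          have := exp_arith_large hq5 hn
          omega)
      _ = (3 ^ (q ^ n - 1)) ^ 3 := by rw [mul_comm, pow_mul]

variable {V : Type u} [CommGroup V] [Finite V] {S : Subgroup (MulAut V)} {k : Type*} [Field k]

/-- Solvable irreducible groups of isometries. -/
theorem kb_symp (β : V →* V →* kˣ) (hnd : ∀ y, (∀ x, β x y = 1) → y = 1)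
    (hskew : ∀ x y, β x y * β y x = 1) (hiso : ∀ φ ∈ S, ∀ x y, β (φ x) (φ y) = β x y)
    (hsol : Group.IsSolvable S) (hirr : IrrAut S) {q n : ℕ} (hq : q.Prime) (hn : 1 ≤ n)
    (hexp : ∀ x : V, x ^ q = 1) (hV : Nat.card V = q ^ (2 * n)) :
    KB S (3 ^ (q ^ n - 1)) := by
  haveI := finite_aut (V := V)
  have hq2 := hq.two_le
  rcases hn.eq_or_lt with rfl | hn2
  · refine (kb_general hq (le_refl 2) hexp hV S).mono ?_
    rw [Finset.Ico_self, Finset.prod_empty, mul_one, pow_one]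
    rcases (by omega : q = 2 ∨ q = 3 ∨ q = 4 ∨ 5 ≤ q) with rfl | rfl | rfl | h
    · norm_num
    · norm_num
    · norm_num at hq
    · have := line_arith h
      omega
  have h4 : q ≠ 4 := fun h => by rw [h] at hq; norm_num at hq
  rcases (by omega : (q = 2 ∧ (n = 2 ∨ n = 3 ∨ n = 4)) ∨ (q = 2 ∧ n = 5) ∨ (q = 3 ∧ n = 2) ∨
      ((q = 2 ∧ 6 ≤ n) ∨ (q = 3 ∧ 3 ≤ n) ∨ (5 ≤ q ∧ 2 ≤ n))) with ⟨rfl, hm⟩ | ⟨rfl, rfl⟩ | ⟨rfl, rfl⟩ | h
  · exact kb_binary β hnd hskew hiso hsol hirr hexp hm hV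
  · exact (kb_form β hq (by norm_num) hexp hV hnd S hiso).mono (by norm_num [Finset.prod_Ico_succ_top])
  · exact (kb_form β hq (by norm_num) hexp hV hnd S hiso).mono (by norm_num [Finset.prod_Ico_succ_top])
  refine KB.of_card (le_trans ?_ (pow_symp_le hq h))
  refine (card_fix_isometry_le β hq hV hnd (K := ⊥) (j := 0) (by rw [Subgroup.card_bot, pow_zero]) hiso
    (fun c _ y hy => by rw [Subgroup.mem_bot] at hy; rw [hy, map_one])).trans ?_
  have hsum : ∑ i ∈ Finset.range (2 * n), (2 * n - i) = n * (2 * n + 1) := by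
    have h1 := Finset.sum_range_reflect (fun i => i + 1) (2 * n)
    rw [Finset.sum_congr rfl fun i hi => show (2 * n - 1 - i) + 1 = 2 * n - i by
      have := Finset.mem_range.1 hi; omega] at h1
    rw [h1, Finset.sum_add_distrib, Finset.sum_const, Finset.card_range, smul_eq_mul, mul_one]
    have h2 := Finset.sum_range_id_mul_two (2 * n)
    obtain ⟨n', rfl⟩ : ∃ n', n = n' + 1 := ⟨n - 1, by omega⟩
    rw [show 2 * (n' + 1) - 1 = 2 * n' + 1 by omega] at h2
    nlinarith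
  rw [← hsum, ← Finset.prod_pow_eq_pow_sum, ← Finset.range_eq_Ico]
  exact Finset.prod_le_prod' fun i _ => min_le_right _ _

end CfsgLib.FitMod
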