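import Cfsg.Agent.FitMod.Quot
import Cfsg.Agent.FitMod.Symp
import Cfsg.Agent.SolvLinK.Primitive
import Cfsg.Agent.Comp.Basic
import Mathlib.GroupTheory.NoncommCoprod

/-!
Primitive solvable linear groups modulo the Fitting subgroup.
-/

set_option autoImplicit false
set_option linter.style.haveILetI false
set_option linter.unusedSectionVars false

open scoped commutatorElement

namespace CfsgLib.FitMod

open Module CfsgLib.SolvLinK

universe u v w

variable {k : Type w} [Field k] {W : Type v} [AddCommGroup W] [Module k W]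
variable {G : Type u} [Group G]
variable [IsAlgClosed k] [FiniteDimensional k W] [Finite G] (π : G →* Module.End k W)

theorem primitive_fit (hinj : Function.Injective π) (hsol : Group.IsSolvable G) (hirr : IsIrr π)
    (hsc : ∀ A : Subgroup G, A.Normal → (∀ a ∈ A, ∀ b ∈ A, a * b = b * a) →
      ∀ a ∈ A, ∃ c : k, π a = c • (1 : Module.End k W))
    {d : ℕ} (hd : finrank k W = d) (hd2 : 2 ≤ d) (ih : FBBelow.{u, v, w} k d) :
    FB G d := by
  classical
  obtain ⟨v₀, -, hv₀⟩ := (Submodule.ne_bot_iff _).1 hirr.1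
  set Z := Subgroup.center G with hZdef
  have hcentral : ∀ (g : G) (c : k), π g = c • (1 : Module.End k W) → g ∈ Z := fun g c hg =>
    Subgroup.mem_center_iff.2 fun x => hinj (by
      rw [map_mul, map_mul, hg, mul_smul_comm, smul_mul_assoc, mul_one, one_mul])
  have hZs : ∀ z ∈ Z, ∃ c : k, π z = c • (1 : Module.End k W) :=
    hsc Z inferInstance fun a ha b _ => (Subgroup.mem_center_iff.1 ha b).symm
  obtain ⟨ζ, hζ⟩ := exists_eigHom (π.comp Z.subtype) hv₀ fun z => by
    obtain ⟨c, hc⟩ := hZs z z.2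
    exact ⟨c, LinearMap.congr_fun hc v₀⟩
  have hζ1 : ∀ z : Z, π z = (ζ z : k) • (1 : Module.End k W) := fun z => by
    obtain ⟨c, hc⟩ := hZs z z.2
    rw [hc]
    congr 1
    refine smul_left_injective k hv₀ ?_
    show c • v₀ = (ζ z : k) • v₀
    rw [← hζ z]
    exact (LinearMap.congr_fun hc v₀).symm
  have hζinj : Function.Injective ζ := fun a b h => Subtype.ext (hinj (by rw [hζ1, hζ1, h]))
  -- the group is not commutative
  have hX1 : (⊤ : Subgroup (G ⧸ Z)) ≠ ⊥ := by
    intro h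
    have hall : ∀ g : G, g ∈ Z := fun g => (QuotientGroup.eq_one_iff g).1
      (Subgroup.mem_bot.1 (h ▸ Subgroup.mem_top (g : G ⧸ Z)))
    have hline : Invt π (k ∙ v₀) := fun g x hx => by
      obtain ⟨c, rfl⟩ := Submodule.mem_span_singleton.1 hx
      obtain ⟨e, he⟩ := hZs g (hall g)
      rw [he]
      exact Submodule.mem_span_singleton.2 ⟨e * c, by simp [smul_smul, mul_comm]⟩
    have h1 : (k ∙ v₀) = ⊤ := (hirr.2 _ hline).resolve_left fun h0 => hv₀ (Submodule.span_singleton_eq_bot.1 h0)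
    have := finrank_span_singleton (K := k) hv₀
    rw [h1, finrank_top, hd] at this
    omega
  haveI : Group.IsSolvable (G ⧸ Z) := Group.isSolvable_of_surjective (QuotientGroup.mk'_surjective Z)
  haveI : Group.IsSolvable (⊤ : Subgroup (G ⧸ Z)) :=
    Group.isSolvable_of_isSolvable_injective (Subgroup.subtype_injective (⊤ : Subgroup (G ⧸ Z)))
  obtain ⟨Eb, hEbn, hEb0, -, hEbc, hmin, q, hq, hexp, hEbp⟩ :=
    CfsgLib.Solvable.exists_normal_elementary_le (N := (⊤ : Subgroup (G ⧸ Z))) hX1 inferInstance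
  haveI := hEbn
  haveI : Fact q.Prime := ⟨hq⟩
  letI : CommGroup Eb := { (inferInstance : Group Eb) with mul_comm := fun a b => hEbc.is_comm.comm a b }
  let E : Subgroup G := Eb.comap (QuotientGroup.mk' Z)
  have hEn : E.Normal := Subgroup.Normal.comap hEbn _
  haveI := hEn
  -- the pairing
  have hmem : ∀ {g h : G}, g ∈ E → h ∈ E → ⁅g, h⁆ ∈ Z := by
    intro g h hg hh
    refine (QuotientGroup.eq_one_iff _).1 ?_
    show QuotientGroup.mk' Z ⁅g, h⁆ = 1
    rw [map_commutatorElement, commutatorElement_eq_one_iff_mul_comm]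
    exact congrArg Subtype.val (mul_comm (⟨_, hg⟩ : Eb) ⟨_, hh⟩)
  have hc : ∀ {w : G}, w ∈ Z → ∀ g, g * w = w * g := fun hw g => Subgroup.mem_center_iff.1 hw g
  have hbr : ∀ {g g' h h' : G}, (g : G ⧸ Z) = g' → (h : G ⧸ Z) = h' → ⁅g, h⁆ = ⁅g', h'⁆ := by
    intro g g' h h' hg hh
    obtain ⟨w, hw, rfl⟩ : ∃ w ∈ Z, g' = g * w := ⟨g⁻¹ * g', QuotientGroup.eq.1 hg, by group⟩
    obtain ⟨x, hx, rfl⟩ : ∃ x ∈ Z, h' = h * x := ⟨h⁻¹ * h', QuotientGroup.eq.1 hh, by group⟩
    simp only [commutatorElement_def, mul_inv_rev]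
    rw [show g * w * (h * x) * (w⁻¹ * g⁻¹) * (x⁻¹ * h⁻¹) = g * (w * (h * x) * w⁻¹) * g⁻¹ * (x⁻¹ * h⁻¹) by group,
      ← hc hw (h * x), mul_inv_cancel_right,
      show g * (h * x) * g⁻¹ * (x⁻¹ * h⁻¹) = g * h * (x * g⁻¹ * x⁻¹) * h⁻¹ by group,
      ← hc hx g⁻¹, mul_inv_cancel_right]
  have hlift : ∀ x : Eb, (x : G ⧸ Z).out ∈ E := fun x => by
    show ((x : G ⧸ Z).out : G ⧸ Z) ∈ Eb
    rw [QuotientGroup.out_eq']; exact x.2
  let b : Eb → Eb → kˣ := fun x y => ζ ⟨_, hmem (hlift x) (hlift y)⟩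
  have hb : ∀ (x y : Eb) {g h : G} (hg : g ∈ E) (hh : h ∈ E), (g : G ⧸ Z) = x → (h : G ⧸ Z) = y →
      b x y = ζ ⟨⁅g, h⁆, hmem hg hh⟩ := fun x y g h hg hh e1 e2 =>
    congrArg ζ (Subtype.ext (hbr ((QuotientGroup.out_eq' _).trans e1.symm) ((QuotientGroup.out_eq' _).trans e2.symm)))
  have hbr_right : ∀ x y y', b x (y * y') = b x y * b x y' := by
    intro x y y'
    rw [hb x (y * y') (hlift x) (E.mul_mem (hlift y) (hlift y')) (QuotientGroup.out_eq' _)
      (by rw [QuotientGroup.mk_mul, QuotientGroup.out_eq', QuotientGroup.out_eq']; rfl)]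
    show ζ _ = ζ _ * ζ _
    rw [← map_mul]
    refine congrArg ζ (Subtype.ext ?_)
    show ⁅_, _ * _⁆ = ⁅_, _⁆ * ⁅_, _⁆
    conv_rhs => rw [← mul_inv_cancel_right ⁅(x : G ⧸ Z).out, (y' : G ⧸ Z).out⁆ (y : G ⧸ Z).out,
      ← hc (hmem (hlift x) (hlift y')) ((y : G ⧸ Z).out)]
    simp only [commutatorElement_def]
    group
  have hb_left : ∀ x x' y, b (x * x') y = b x y * b x' y := by
    intro x x' y
    rw [hb (x * x') y (E.mul_mem (hlift x) (hlift x')) (hlift y)
      (by rw [QuotientGroup.mk_mul, QuotientGroup.out_eq', QuotientGroup.out_eq']; rfl) (QuotientGroup.out_eq' _)]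
    show ζ _ = ζ _ * ζ _
    rw [mul_comm (ζ _), ← map_mul]
    refine congrArg ζ (Subtype.ext ?_)
    show ⁅_ * _, _⁆ = ⁅_, _⁆ * ⁅_, _⁆
    conv_rhs => rw [← mul_inv_cancel_right ⁅(x' : G ⧸ Z).out, (y : G ⧸ Z).out⁆ (x : G ⧸ Z).out,
      ← hc (hmem (hlift x') (hlift y)) ((x : G ⧸ Z).out)]
    simp only [commutatorElement_def]
    group
  let β : Eb →* Eb →* kˣ := MonoidHom.mk' (fun x => MonoidHom.mk' (b x) (hbr_right x))
    fun x x' => MonoidHom.ext (hb_left x x')
  have hβ : ∀ (x y : Eb) {g h : G} (hg : g ∈ E) (hh : h ∈ E), (g : G ⧸ Z) = x → (h : G ⧸ Z) = y →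
      β x y = ζ ⟨⁅g, h⁆, hmem hg hh⟩ := hb
  have hβ1 : ∀ (x y : Eb) {g h : G}, g ∈ E → h ∈ E → (g : G ⧸ Z) = x → (h : G ⧸ Z) = y →
      β x y = 1 → g * h = h * g := by
    intro x y g h hg hh e1 e2 h1
    rw [hβ x y hg hh e1 e2] at h1
    exact commutatorElement_eq_one_iff_mul_comm.1 (congrArg Subtype.val (hζinj (h1.trans (map_one ζ).symm)))
  have hself : ∀ x, β x x = 1 := fun x => by
    rw [hβ x x (hlift x) (hlift x) (QuotientGroup.out_eq' _) (QuotientGroup.out_eq' _)]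
    have : (⟨_, hmem (hlift x) (hlift x)⟩ : Z) = 1 := Subtype.ext (commutatorElement_self _)
    rw [this, map_one]
  have hskew : ∀ x y, β x y * β y x = 1 := fun x y => by
    have := hself (x * y)
    rwa [map_mul (β (x * y)), map_mul β, MonoidHom.mul_apply, MonoidHom.mul_apply, hself x, hself y, one_mul, mul_one,
      mul_comm] at this
  have hnd : ∀ y, (∀ x, β x y = 1) → y = 1 := by
    intro y hy
    let Y : Subgroup G := E ⊓ Subgroup.centralizer (E : Set G)
    have hmemY : (y : G ⧸ Z).out ∈ Y := by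
      refine ⟨hlift y, fun g hg => ?_⟩
      exact hβ1 ⟨_, hg⟩ y hg (hlift y) rfl (QuotientGroup.out_eq' _) (hy _)
    have hYs := hsc Y inferInstance (fun a ha c hc' => (ha.2 c hc'.1).symm) _ hmemY
    obtain ⟨c, hc'⟩ := hYs
    refine Subtype.ext ?_
    rw [← QuotientGroup.out_eq' (y : G ⧸ Z)]
    exact (QuotientGroup.eq_one_iff _).2 (hcentral _ c hc')
  have hndl : ∀ x, (∀ y, β x y = 1) → x = 1 := fun x hx => hnd x fun y => by
    have := hskew x y
    rwa [hx y, one_mul] at this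
  -- a maximal isotropic subgroup
  obtain ⟨Ab, hAb⟩ := Set.Finite.exists_maximalFor (fun L : Subgroup Eb => Nat.card L)
    {L : Subgroup Eb | L ≤ perp β L} (Set.toFinite _) ⟨⊥, (bot_le : ⊥ ≤ perp β ⊥)⟩
  have hperp : perp β Ab = Ab := by
    refine le_antisymm (fun x hx => ?_) hAb.1
    let L := Ab ⊔ Subgroup.zpowers x
    have hL : L ≤ perp β L := by
      intro y hy h hh
      have h1 : y ∈ perp β Ab := sup_le hAb.1 (Subgroup.zpowers_le.2 hx) hy
      have h2 : y ∈ perp β (Subgroup.zpowers x) := by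
        refine (sup_le (fun a ha h' hh' => ?_) (Subgroup.zpowers_le.2 fun h' hh' => ?_) : L ≤ perp β (Subgroup.zpowers x)) hy
        · obtain ⟨i, rfl⟩ := Subgroup.mem_zpowers_iff.1 hh'
          have := hskew a x
          rw [hx a ha, mul_one] at this
          rw [map_zpow, this, one_zpow]
        · obtain ⟨i, rfl⟩ := Subgroup.mem_zpowers_iff.1 hh'
          rw [map_zpow, hself, one_zpow]
      exact (sup_le (fun a ha => MonoidHom.mem_ker.2 (h1 a ha))
        (fun a ha => MonoidHom.mem_ker.2 (h2 a ha)) : L ≤ (β y).ker) hh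
    have hle : Ab ≤ L := le_sup_left
    have := CfsgLib.Solvable.eq_of_le_of_card_le hle (hAb.2 hL (Subgroup.card_le_of_le hle))
    exact this.ge (Subgroup.mem_sup_right (Subgroup.mem_zpowers x))
  haveI := finite_monoidHom_units (k := k) Ab
  let r : Eb →* (Ab →* kˣ) := (MonoidHom.compHom' Ab.subtype).comp β
  have hrker : r.ker = Ab := by
    refine Eq.trans ?_ hperp
    ext x
    rw [MonoidHom.mem_ker]
    exact ⟨fun h y hy => DFunLike.congr_fun h ⟨y, hy⟩, fun h => MonoidHom.ext fun y => h y y.2⟩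
  have hidx : Nat.card r.range = Ab.index := by rw [← Subgroup.index_ker, hrker]
  have hle1 : Nat.card Ab * Nat.card Ab ≤ Nat.card Eb := by
    have := card_mul_perp_le β hnd Ab
    rwa [hperp] at this
  have hle2 : Nat.card r.range ≤ Nat.card Ab :=
    (Subgroup.card_le_card_group _).trans (card_monoidHom_units_le Ab)
  have hEcard : Nat.card Ab * Ab.index = Nat.card Eb := Ab.card_mul_index
  have hAe : Ab.index = Nat.card Ab := le_antisymm (hidx ▸ hle2) (Nat.le_of_mul_le_mul_left (hEcard ▸ hle1) Nat.card_pos)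
  have hrsurj : Function.Surjective r := fun f => by
    have : r.range = ⊤ := CfsgLib.Solvable.eq_of_le_of_card_le le_top (by
      rw [Subgroup.card_top, hidx, hAe]; exact card_monoidHom_units_le Ab)
    exact this.ge (Subgroup.mem_top f)
  obtain ⟨n, hn⟩ := IsPGroup.iff_card.1 (hEbp.to_subgroup Ab)
  have hEb : Nat.card Eb = (q ^ n) ^ 2 := by rw [← hEcard, hAe, hn, sq]
  have hn1 : 1 ≤ n := by
    by_contra hc'
    obtain rfl : n = 0 := by omega
    exact hEb0 (Subgroup.eq_bot_of_card_eq _ (by simpa using hEb))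
  -- the eigenspace of the isotropic subgroup
  let pE : E →* Eb := ((QuotientGroup.mk' Z).comp E.subtype).codRestrict Eb fun g => g.2
  have hpE : Function.Surjective pE := fun x => by
    obtain ⟨g, hg⟩ := exists_lifts Z Eb x
    exact ⟨g, Subtype.ext hg⟩
  let A : Subgroup E := Ab.comap pE
  haveI hAn : A.Normal := Subgroup.Normal.comap (H := Ab) ⟨fun a ha g => by rwa [mul_comm g, mul_inv_cancel_right]⟩ _
  have hAidx : A.index = q ^ n := by rw [Subgroup.index_comap_of_surjective _ hpE, hAe, hn]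
  have hAab : ∀ a ∈ A, ∀ c ∈ A, a * c = c * a := fun a ha c hc' => Subtype.ext
    (hβ1 (pE a) (pE c) a.2 c.2 rfl rfl (hAb.1 ha _ hc'))
  set πE : E →* Module.End k W := π.comp E.subtype with hπE
  obtain ⟨v, hv0, hvA⟩ := exists_common_eigvec (π := πE.comp A.subtype) hirr.1 fun a c => by
    rw [← map_mul, ← map_mul]
    exact congrArg _ (Subtype.ext (hAab a a.2 c c.2))
  obtain ⟨Λ, hΛ⟩ := exists_eigHom (πE.comp A.subtype) hv0 hvA
  let lam : E → k := fun a => if h : a ∈ A then (Λ ⟨a, h⟩ : k) else 0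
  have hlam : ∀ (a : E) (h : a ∈ A), lam a = (Λ ⟨a, h⟩ : k) := fun a h => dif_pos h
  have hvmem : v ∈ eigS πE A lam := fun a ha => by rw [hlam a ha]; exact hΛ ⟨a, ha⟩
  have hcommA : ∀ (g a : E), a ∈ A → ∀ {x : W} {μ : k}, π a x = μ • x →
      π ((g : G) * a * (g : G)⁻¹) x = ((β (pE g) (pE a) : kˣ) : k) • μ • x := by
    intro g a _ x μ hx
    rw [show ((g : G) * a * (g : G)⁻¹) = ⁅(g : G), (a : G)⁆ * a by simp [commutatorElement_def],
      map_mul, Module.End.mul_apply, hx, hβ (pE g) (pE a) g.2 a.2 rfl rfl,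
      show π ⁅(g : G), (a : G)⁆ = _ from hζ1 ⟨_, hmem g.2 a.2⟩]
    rfl
  have hconjA : ∀ (g : E) {a : E}, a ∈ A → g * a * g⁻¹ ∈ A := fun g a ha => hAn.conj_mem a ha g
  have hstab : valStab A lam = A := by
    ext g
    constructor
    · intro hg
      show pE g ∈ Ab
      rw [← hperp]
      intro y hy
      obtain ⟨a, rfl⟩ := hpE y
      have ha : a ∈ A := hy
      have h1 := hg a ha
      have h2 := hcommA g⁻¹ a ha (hΛ ⟨a, ha⟩ : π a v = _)
      have hm := hconjA g⁻¹ ha
      rw [inv_inv] at hm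
      have h3 : π ((g : G)⁻¹ * a * (g : G)) v = lam (g⁻¹ * a * g) • v := by
        rw [hlam _ hm]; exact hΛ ⟨_, hm⟩
      rw [Subgroup.coe_inv, inv_inv] at h2
      rw [h3, h1, hlam a ha, smul_smul] at h2
      have h4 := smul_left_injective k hv0 h2
      have h5 : β (pE g⁻¹) (pE a) = 1 := Units.ext (mul_left_eq_self₀.1 h4.symm |>.resolve_right (Units.ne_zero _))
      rw [map_inv, map_inv, MonoidHom.inv_apply, inv_eq_one] at h5
      exact h5
    · intro hg a ha
      rw [hAab _ (A.mul_mem (A.inv_mem hg) ha) _ hg, mul_inv_cancel_left]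
  haveI : Fintype (E ⧸ valStab A lam) := Fintype.ofFinite _
  set W₁ := eigS πE A lam with hW₁
  have hspan : ⨆ g, W₁.map (πE g) = ⊤ := by
    obtain ⟨Y', hY', hcompl⟩ := hirr.cr_normal E _ (invt_translates (π := πE) W₁)
    rcases eq_or_ne Y' ⊥ with rfl | hY0
    · simpa using hcompl.sup_eq_top
    exfalso
    have hY'A : Invt (πE.comp A.subtype) Y' := fun a => hY' a
    haveI : Nontrivial Y' := Submodule.nontrivial_iff_ne_bot.2 hY0
    obtain ⟨w, hw0, hwA⟩ := exists_common_eigvec (π := restrictRep _ Y' hY'A) top_ne_bot fun a c => by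
      rw [← map_mul, ← map_mul]
      exact congrArg _ (Subtype.ext (hAab a a.2 c c.2))
    obtain ⟨M, hM⟩ := exists_eigHom _ hw0 hwA
    have hMw : ∀ a : A, π (a : E) (w : W) = (M a : k) • (w : W) := fun a => congrArg Subtype.val (hM a)
    let pA : A →* Ab := (pE.comp A.subtype).codRestrict Ab fun a => a.2
    have hpA : Function.Surjective pA := fun y => by
      obtain ⟨a, ha⟩ := hpE y
      exact ⟨⟨a, show pE a ∈ Ab by rw [ha]; exact y.2⟩, Subtype.ext ha⟩
    let F : A →* kˣ := Λ * M⁻¹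
    have hker : pA.ker ≤ F.ker := by
      intro a ha
      rw [MonoidHom.mem_ker] at ha ⊢
      have haZ : ((a : E) : G) ∈ Z := (QuotientGroup.eq_one_iff _).1
        (congrArg (fun t : Ab => ((t : Eb) : G ⧸ Z)) ha)
      obtain ⟨c, hc'⟩ := hZs _ haZ
      have e1 : (Λ a : k) = c := smul_left_injective k hv0 (by
        show (Λ a : k) • v = c • v
        rw [← hΛ a]; exact LinearMap.congr_fun hc' v)
      have e2 : (M a : k) = c := smul_left_injective k (fun h => hw0 (Subtype.ext h) : (w : W) ≠ 0) (by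
        show (M a : k) • (w : W) = c • (w : W)
        rw [← hMw a]; exact LinearMap.congr_fun hc' (w : W))
      show Λ a * (M a)⁻¹ = 1
      rw [mul_inv_eq_one]
      exact Units.ext (e1.trans e2.symm)
    let f : Ab →* kˣ := pA.liftOfSurjective hpA ⟨F, hker⟩
    obtain ⟨x, hx⟩ := hrsurj f
    obtain ⟨g, rfl⟩ := hpE x
    have hfa : ∀ a : A, β (pE g) (pE a) = Λ a * (M a)⁻¹ := fun a => by
      have h1 : f (pA a) = F a := pA.liftOfRightInverse_comp_apply _ _ ⟨F, hker⟩ a
      rw [← hx] at h1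
      exact h1
    have hmemW : π (g : G)⁻¹ (w : W) ∈ W₁ := by
      intro a ha
      show π (a : G) (π (g : G)⁻¹ (w : W)) = lam a • π (g : G)⁻¹ (w : W)
      rw [rep_conj_apply, inv_inv, hcommA g a ha (hMw ⟨a, ha⟩), hfa ⟨a, ha⟩, smul_smul, Units.val_mul,
        mul_assoc, Units.inv_mul, mul_one, map_smul, hlam a ha]
    have hwY : (w : W) ∈ (⨆ g, W₁.map (πE g)) ⊓ Y' :=
      ⟨Submodule.mem_iSup_of_mem g ⟨_, hmemW, rep_apply_inv π (g : G) _⟩, w.2⟩
    rw [hcompl.inf_eq_bot, Submodule.mem_bot] at hwY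
    exact hw0 (Subtype.ext hwY)
  have hdm : d = q ^ n * finrank k W₁ := by
    rw [← hd, finrank_blocks πE A lam hspan, hstab, hAidx]
  set m := finrank k W₁ with hm
  have hm1 : 1 ≤ m := by
    haveI : Nontrivial W₁ := ⟨⟨⟨v, hvmem⟩, 0, fun h => hv0 (congrArg Subtype.val h)⟩⟩
    exact Module.finrank_pos
  have he2 : 2 ≤ q ^ n := hq.two_le.trans (Nat.le_self_pow (by omega) q)
  have hmd : m < d := by rw [hdm]; nlinarith
  -- the centraliser of the layer
  let C : Subgroup G := Subgroup.centralizer (E : Set G)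
  have hCn : C.Normal := inferInstance
  have hCW : Invt (π.comp C.subtype) W₁ := by
    intro c x hx a ha
    show π (a : G) (π (c : G) x) = lam a • π (c : G) x
    rw [← Module.End.mul_apply, ← map_mul, c.2 (a : G) a.2, map_mul, Module.End.mul_apply]
    exact (congrArg (π (c : G)) (hx a ha)).trans (map_smul _ _ _)
  let ρC : C →* Module.End k W₁ := restrictRep (π.comp C.subtype) W₁ hCW
  have hρC : Function.Injective ρC := by
    refine (injective_iff_map_eq_one ρC).2 fun c hc' => Subtype.ext (hinj ?_)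
    show π (c : G) = π 1
    rw [map_one]
    refine eq_one_of_fix_blocks πE A lam hspan fun x y hy => ?_
    have h1 : π (c : G) y = y := congrArg Subtype.val (LinearMap.congr_fun hc' ⟨y, hy⟩)
    show π (c : G) (π (x.out : G) y) = π (x.out : G) y
    rw [← Module.End.mul_apply, ← map_mul, ← c.2 _ x.out.2, map_mul, Module.End.mul_apply, h1]
  haveI : Group.IsSolvable C := Group.isSolvable_of_isSolvable_injective C.subtype_injective
  have hRC : FB C m := ih m hmd C W₁ ρC hρC inferInstance ((hirr.cr_normal C).restrict hCW) rfl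
  -- the induced group of isometries
  let σ : G ⧸ Z →* MulAut Eb := MulAut.conjNormal
  have hσ : ∀ (g : G) (x : Eb), ((σ (g : G ⧸ Z) x : Eb) : G ⧸ Z) = (g : G ⧸ Z) * x * (g : G ⧸ Z)⁻¹ :=
    fun g x => MulAut.conjNormal_apply _ x
  set S := σ.range with hSdef
  haveI : Finite (MulAut Eb) := finite_mulAut
  have hiso : ∀ φ ∈ S, ∀ x y, β (φ x) (φ y) = β x y := by
    rintro _ ⟨t, rfl⟩ x y
    obtain ⟨g, rfl⟩ := QuotientGroup.mk'_surjective Z t
    show β (σ (g : G ⧸ Z) x) (σ (g : G ⧸ Z) y) = β x y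
    have hxy := hmem (hlift x) (hlift y)
    have e : ∀ z : Eb, ((g * (z : G ⧸ Z).out * g⁻¹ : G) : G ⧸ Z) = ((σ (g : G ⧸ Z) z : Eb) : G ⧸ Z) := fun z => by
      rw [hσ, QuotientGroup.mk_mul, QuotientGroup.mk_mul, QuotientGroup.mk_inv, QuotientGroup.out_eq']
    rw [hβ _ _ (hEn.conj_mem _ (hlift x) g) (hEn.conj_mem _ (hlift y) g) (e x) (e y),
      hβ x y (hlift x) (hlift y) (QuotientGroup.out_eq' _) (QuotientGroup.out_eq' _)]
    refine congrArg ζ (Subtype.ext ?_)
    show ⁅g * _ * g⁻¹, g * _ * g⁻¹⁆ = ⁅(x : G ⧸ Z).out, (y : G ⧸ Z).out⁆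
    conv_rhs => rw [← mul_inv_cancel_right ⁅(x : G ⧸ Z).out, (y : G ⧸ Z).out⁆ g, ← hc hxy g]
    simp only [commutatorElement_def]
    group
  have hirrS : IrrAut S := by
    intro U hU
    have hUn : (U.map Eb.subtype).Normal := by
      refine ⟨?_⟩
      rintro _ ⟨y, hy, rfl⟩ t
      exact ⟨σ t y, hU _ ⟨t, rfl⟩ y hy, MulAut.conjNormal_apply t y⟩
    rcases hmin _ hUn (Subgroup.map_subtype_le U) with h | h
    · left
      exact Subgroup.map_injective (Subgroup.subtype_injective Eb) (h.trans (Subgroup.map_bot _).symm)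
    · right
      refine eq_top_iff.2 fun y _ => ?_
      obtain ⟨z, hz, hzy⟩ := h.ge y.2
      rwa [← Subtype.ext hzy]
  haveI hSsol : Group.IsSolvable S := Group.isSolvable_of_surjective σ.rangeRestrict_surjective
  set s := Nat.card S with hs
  have hcardEb : Nat.card Eb = q ^ (2 * n) := by rw [hEb, ← pow_mul, mul_comm]
  haveI := finite_monoidHom_units (k := k) Eb
  have hβsurj : Function.Surjective β := by
    have hinjβ : Function.Injective β := (injective_iff_map_eq_one β).2 fun x hx =>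
      hndl x fun y => DFunLike.congr_fun hx y
    exact ((Nat.bijective_iff_injective_and_card β).2 ⟨hinjβ, le_antisymm
      (Nat.card_le_card_of_injective β hinjβ) (card_monoidHom_units_le Eb)⟩).2
  let K : Subgroup G := σ.ker.comap (QuotientGroup.mk' Z)
  have hKdec : ∀ g ∈ K, ∃ y ∈ E, ∃ c ∈ C, g = y * c := by
    intro g hg
    have htriv : ∀ x : Eb, (g : G ⧸ Z) * x * (g : G ⧸ Z)⁻¹ = x := fun x => by
      rw [← hσ]
      exact congrArg Subtype.val (DFunLike.congr_fun (show σ (g : G ⧸ Z) = 1 from hg) x)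
    have hgm : ∀ x ∈ E, ⁅g, x⁆ ∈ Z := fun x hx => by
      refine (QuotientGroup.eq_one_iff _).1 ?_
      show QuotientGroup.mk' Z ⁅g, x⁆ = 1
      rw [map_commutatorElement, commutatorElement_eq_one_iff_mul_comm]
      exact mul_inv_eq_iff_eq_mul.1 (htriv ⟨_, hx⟩)
    let φ : E →* kˣ := MonoidHom.mk' (fun x => ζ ⟨⁅g, (x : G)⁆, hgm x x.2⟩) fun x x' => by
      rw [← map_mul]
      refine congrArg ζ (Subtype.ext ?_)
      show ⁅g, (x : G) * x'⁆ = ⁅g, (x : G)⁆ * ⁅g, (x' : G)⁆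
      conv_rhs => rw [← mul_inv_cancel_right ⁅g, (x' : G)⁆ (x : G), ← hc (hgm x' x'.2) (x : G)]
      simp only [commutatorElement_def]
      group
    have hφker : pE.ker ≤ φ.ker := fun x hx => by
      have hxZ : (x : G) ∈ Z := (QuotientGroup.eq_one_iff _).1 (congrArg Subtype.val hx)
      refine MonoidHom.mem_ker.2 ?_
      show ζ ⟨⁅g, (x : G)⁆, hgm x x.2⟩ = 1
      have : (⟨⁅g, (x : G)⁆, hgm x x.2⟩ : Z) = 1 := Subtype.ext
        (commutatorElement_eq_one_iff_mul_comm.2 (hc hxZ g))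
      rw [this, map_one]
    obtain ⟨y, hy⟩ := hβsurj (pE.liftOfSurjective hpE ⟨φ, hφker⟩)
    obtain ⟨y, rfl⟩ := hpE y
    refine ⟨y, y.2, (y : G)⁻¹ * g, fun x hx => ?_, by group⟩
    have h1 : β (pE y) (pE ⟨x, hx⟩) = φ ⟨x, hx⟩ := by
      rw [hy]; exact pE.liftOfRightInverse_comp_apply _ _ ⟨φ, hφker⟩ ⟨x, hx⟩
    rw [hβ _ _ y.2 hx rfl rfl] at h1
    have h2 : ⁅(y : G), x⁆ = ⁅g, x⁆ := congrArg Subtype.val (hζinj h1)
    simp only [commutatorElement_def] at h2
    have h3 : (y : G) * x * (y : G)⁻¹ = g * x * g⁻¹ := mul_right_cancel h2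
    calc x * ((y : G)⁻¹ * g) = (y : G)⁻¹ * ((y : G) * x * (y : G)⁻¹) * g := by group
      _ = (y : G)⁻¹ * g * x := by rw [h3]; group
  -- the nilpotent normal subgroup
  have hexpq : ∀ x : Eb, x ^ q = 1 := fun x => Subtype.ext (by rw [Subgroup.coe_pow]; exact hexp x x.2)
  have hSB : KB S (3 ^ (q ^ n - 1)) := kb_symp β hnd hskew hiso hSsol hirrS hq hn1 hexpq hcardEb
  have hEnil : Group.IsNilpotent E := by
    refine Subgroup.isNilpotent_of_ker_le_center pE (fun x hx => Subgroup.mem_center_iff.2 fun y => Subtype.ext ?_)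
    exact hc ((QuotientGroup.eq_one_iff _).1 (congrArg Subtype.val hx)) y
  let FC : Subgroup G := (Cfsg.fittingSubgroup C).map C.subtype
  have hFCC : FC ≤ C := Subgroup.map_subtype_le _
  haveI hFCn : FC.Normal := ConjAct.normal_of_characteristic_of_normal
  haveI hFnil : Group.IsNilpotent (Cfsg.fittingSubgroup C) := CfsgLib.Solvable.isNilpotent_fittingSubgroup
  haveI := hEnil
  let μ : E × Cfsg.fittingSubgroup C →* G := MonoidHom.noncommCoprod E.subtype
    (C.subtype.comp (Cfsg.fittingSubgroup C).subtype) fun x c => (c : C).2 x x.2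
  have hμ : μ.range = E ⊔ FC := by
    refine (MonoidHom.noncommCoprod_range E.subtype (C.subtype.comp (Cfsg.fittingSubgroup C).subtype)
      fun x c => (c : C).2 x x.2).trans ?_
    rw [Subgroup.range_subtype, MonoidHom.range_comp, Subgroup.range_subtype]
  have hNnil : Group.IsNilpotent (E ⊔ FC : Subgroup G) := by
    rw [← hμ]
    exact Group.nilpotent_of_surjective μ.rangeRestrict μ.rangeRestrict_surjective
  refine fb_of_normal (E ⊔ FC) hNnil ?_
  let f : G →* S := σ.rangeRestrict.comp (QuotientGroup.mk' Z)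
  have hfK : f.ker = K := by
    ext x
    show σ.rangeRestrict (x : G ⧸ Z) = 1 ↔ σ (x : G ⧸ Z) = 1
    exact ⟨fun h => congrArg Subtype.val h, fun h => Subtype.ext h⟩
  have hEK : E ≤ K := fun x hx => MonoidHom.mem_ker.2 (MulEquiv.ext fun y => Subtype.ext (by
    show ((σ (x : G ⧸ Z) y : Eb) : G ⧸ Z) = y
    rw [hσ, show (x : G ⧸ Z) * y = y * (x : G ⧸ Z) from congrArg Subtype.val (mul_comm (⟨_, hx⟩ : Eb) y),
      mul_inv_cancel_right]))
  have hCK : C ≤ K := fun x hx => MonoidHom.mem_ker.2 (MulEquiv.ext fun y => Subtype.ext (by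
    show ((σ (x : G ⧸ Z) y : Eb) : G ⧸ Z) = y
    obtain ⟨g, hg⟩ := exists_lifts Z Eb y
    rw [hσ, ← hg, ← QuotientGroup.mk_mul, ← hx g g.2, QuotientGroup.mk_mul, mul_inv_cancel_right]))
  refine (kb_quot (a := 3 ^ (m - 1)) f (E ⊔ FC) (hfK ▸ sup_le hEK (hFCC.trans hCK)) ?_ hSB).mono ?_
  · let φ : C →* G ⧸ (E ⊔ FC) := (QuotientGroup.mk' (E ⊔ FC)).comp C.subtype
    have hφ : φ.range = f.ker.map (QuotientGroup.mk' (E ⊔ FC)) := by
      refine le_antisymm ?_ ?_
      · rintro _ ⟨c, rfl⟩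
        exact ⟨c, hfK.ge (hCK c.2), rfl⟩
      · rintro _ ⟨x, hx, rfl⟩
        obtain ⟨y, hy, c, hc', rfl⟩ := hKdec x (hfK.le hx)
        refine ⟨⟨c, hc'⟩, ?_⟩
        show (c : G ⧸ (E ⊔ FC)) = ((y * c : G) : G ⧸ (E ⊔ FC))
        rw [QuotientGroup.mk_mul, (QuotientGroup.eq_one_iff y).2 (Subgroup.mem_sup_left hy), one_mul]
    rw [← hφ]
    exact hRC.image (QuotientGroup.mk' (Cfsg.fittingSubgroup C)) φ fun c hc' =>
      (QuotientGroup.eq_one_iff _).2 (Subgroup.mem_sup_right ⟨c, (QuotientGroup.eq_one_iff c).1 hc', rfl⟩)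
  · rw [← pow_add, hdm]
    refine Nat.pow_le_pow_right (by norm_num) ?_
    obtain ⟨e, he⟩ : ∃ e, q ^ n = e + 1 := ⟨q ^ n - 1, by omega⟩
    rw [he, Nat.add_sub_cancel, add_mul, one_mul]
    have : e ≤ e * m := Nat.le_mul_of_pos_right e hm1
    omega

end CfsgLib.FitMod
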