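import Cfsg.Agent.FitMod.Count
import Cfsg.Agent.Solvable.Basics
import Cfsg.Agent.SolvLinK.Clifford
import Mathlib.GroupTheory.Nilpotent

/-!
Class numbers of subgroups modulo the Fitting subgroup.
-/

set_option autoImplicit false
set_option linter.style.haveILetI false
set_option linter.unusedSectionVars false

namespace CfsgLib.FitMod

universe u v w

variable {G : Type u} [Group G] [Finite G]

/-- The bound in dimension `d` modulo the Fitting subgroup. -/
def FB (G : Type u) [Group G] [Finite G] (d : ℕ) : Prop :=
  KB (G ⧸ Cfsg.fittingSubgroup G) (3 ^ (d - 1))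

theorem fb_of_normal {d : ℕ} (N : Subgroup G) [N.Normal] (hnil : Group.IsNilpotent N)
    (h : KB (G ⧸ N) (3 ^ (d - 1))) : FB G d :=
  h.of_surjective (QuotientGroup.map N (Cfsg.fittingSubgroup G) (MonoidHom.id G)
    (CfsgLib.Solvable.le_fittingSubgroup inferInstance hnil)) fun y => by
      obtain ⟨x, rfl⟩ := QuotientGroup.mk'_surjective _ y
      exact ⟨(x : G ⧸ N), rfl⟩

theorem nilpotent_of_injective {G' : Type v} [Group G'] [Group.IsNilpotent G'] (f : G →* G')
    (hf : Function.Injective f) : Group.IsNilpotent G :=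
  Group.nilpotent_of_mulEquiv (MonoidHom.ofInjective hf).symm

theorem nilpotent_of_comm (h : ∀ a b : G, a * b = b * a) : Group.IsNilpotent G :=
  let _ : CommGroup G := { (inferInstance : Group G) with mul_comm := h }
  CommGroup.isNilpotent

theorem fb_of_comm {d : ℕ} (h : ∀ a b : G, a * b = b * a) : FB G d := by
  haveI := nilpotent_of_comm h
  refine KB.of_card ?_
  have htop : Cfsg.fittingSubgroup G = ⊤ :=
    eq_top_iff.2 (CfsgLib.Solvable.le_fittingSubgroup inferInstance inferInstance)
  rw [← Subgroup.index_eq_card, htop, Subgroup.index_top]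
  exact Nat.one_le_pow _ _ (by norm_num)

/-- A bound for a quotient from a bound for a normal section above it. -/
theorem kb_quot {Q : Type v} [Group Q] [Finite Q] (f : G →* Q) (N : Subgroup G) [N.Normal]
    (hN : N ≤ f.ker) {a b : ℕ} (hk : KB (f.ker.map (QuotientGroup.mk' N)) a) (hQ : KB Q b) :
    KB (G ⧸ N) (a * b) := by
  refine KB.ext (QuotientGroup.lift N f hN) ?_ hQ
  have : (QuotientGroup.lift N f hN).ker = f.ker.map (QuotientGroup.mk' N) := by
    refine Subgroup.ext fun y => ?_
    obtain ⟨x, rfl⟩ := QuotientGroup.mk'_surjective _ y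
    refine ⟨fun hx => ⟨x, hx, rfl⟩, ?_⟩
    rintro ⟨z, hz, e⟩
    rw [← e]
    exact hz
  rw [this]
  exact hk

/-- The bound for the image of a completely reducible representation. -/
def FBBelow (k : Type w) [Field k] (d : ℕ) : Prop :=
  ∀ m, m < d → ∀ (H : Type u) [Group H] [Finite H] (U : Type v) [AddCommGroup U] [Module k U]
    [FiniteDimensional k U] (σ : H →* Module.End k U),
    Function.Injective σ → Group.IsSolvable H → CfsgLib.SolvLinK.IsCR σ → Module.finrank k U = m → FB H m

end CfsgLib.FitMod
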