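import Cfsg.Agent.FitMod.Count
import Cfsg.Agent.SolvLinK.Isometry
import Cfsg.Agent.SolvLinK.AutBound
import Mathlib.SetTheory.Cardinal.Finite
import Mathlib.Data.Set.Card

/-!
Class numbers of groups of automorphisms of a small elementary abelian group.
-/

set_option autoImplicit false
set_option linter.style.haveILetI false
set_option linter.unusedSectionVars false

namespace CfsgLib.FitMod

open CfsgLib.SolvLinK

universe u

variable {V : Type u} [CommGroup V] [Finite V]

theorem finite_aut : Finite (MulAut V) :=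
  Finite.of_injective (fun φ : MulAut V => (φ : V → V)) DFunLike.coe_injective

/-- Orbit and stabiliser. -/
theorem card_le_orbit_mul (C : Subgroup (MulAut V)) (v : V) (T : Set V) (hT : ∀ c ∈ C, c v ∈ T)
    (F : Subgroup (MulAut V)) (hF : ∀ c ∈ C, c v = v → c ∈ F) :
    Nat.card C ≤ T.ncard * Nat.card F := by
  haveI := finite_aut (V := V)
  rw [← Nat.card_congr (MulAction.orbitProdStabilizerEquivGroup C v), Nat.card_prod]
  refine Nat.mul_le_mul ?_ ?_
  · rw [Nat.card_coe_set_eq]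
    refine Set.ncard_le_ncard ?_
    rintro _ ⟨c, rfl⟩
    exact hT _ c.2
  · exact Nat.card_le_card_of_injective (fun c : MulAction.stabilizer C v => (⟨((c : C) : MulAut V), hF _ (c : C).2 c.2⟩ : F))
      fun a b e => Subtype.ext (Subtype.ext (congrArg Subtype.val e :))

/-- The automorphisms respecting all lines of a partition. -/
theorem ncard_linewise_le (S : Set (MulAut V)) (L : V → Subgroup V) (hmem : ∀ v, v ∈ L v)
    (hdis : ∀ v u, v ≠ 1 → u ∉ L v → L v ⊓ L u = ⊥)
    (hlin : ∀ x ∈ S, ∀ v, x v ∈ L v) {w : V} (hw : w ≠ 1) (hproper : ∃ u, u ∉ L w) :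
    S.ncard ≤ Nat.card (L w) - 1 := by
  classical
  have h1 : ((L w : Set V) \ {1}).ncard = Nat.card (L w) - 1 := by
    rw [Set.ncard_sdiff_singleton_of_mem (L w).one_mem, ← Nat.card_coe_set_eq]
    rfl
  rw [← h1]
  refine Set.ncard_le_ncard_of_injOn (fun x => x w) (fun x hx => ⟨hlin x hx w, fun h => hw ?_⟩) ?_
  · exact (MulEquiv.map_eq_one_iff x).1 h
  intro x hx y hy (hxy : x w = y w)
  -- agreement off the line of `w`
  have hoff : ∀ v, v ∉ L w → x v = y v := fun v hv => by
    have a1 : (x v)⁻¹ * y v ∈ L v := (L v).mul_mem ((L v).inv_mem (hlin x hx v)) (hlin y hy v)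
    have a2 : (x v)⁻¹ * y v ∈ L (v * w) := by
      have := (L (v * w)).mul_mem ((L (v * w)).inv_mem (hlin x hx (v * w))) (hlin y hy (v * w))
      rwa [map_mul, map_mul, hxy, mul_inv_rev, mul_comm (y w)⁻¹, mul_assoc, mul_comm (y v) (y w),
        inv_mul_cancel_left] at this
    have hv1 : v ≠ 1 := fun h => hv (h ▸ (L w).one_mem)
    have hvw : v * w ∉ L v := fun h => by
      have hwv : w ∈ L v := by
        have := (L v).mul_mem ((L v).inv_mem (hmem v)) h
        rwa [inv_mul_cancel_left] at this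
      have h0 := hdis w v hw hv
      have : w ∈ L w ⊓ L v := ⟨hmem w, hwv⟩
      rw [h0, Subgroup.mem_bot] at this
      exact hw this
    have h0 := hdis v (v * w) hv1 hvw
    have h3 : (x v)⁻¹ * y v ∈ L v ⊓ L (v * w) := ⟨a1, a2⟩
    rw [h0, Subgroup.mem_bot, inv_mul_eq_one] at h3
    exact h3
  refine MulEquiv.ext fun v => ?_
  by_cases hv : v ∈ L w
  · obtain ⟨u, hu⟩ := hproper
    have h1 := hoff (v * u) fun h => hu (by
      have := (L w).mul_mem ((L w).inv_mem hv) h
      rwa [inv_mul_cancel_left] at this)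
    rw [map_mul, map_mul, hoff u hu] at h1
    exact mul_right_cancel h1
  · exact hoff v hv

/-- The centraliser in a subgroup, inside the automorphisms. -/
theorem mem_map_centralizer {H : Subgroup (MulAut V)} {g : H} {c : MulAut V}
    (hc : c ∈ (Subgroup.centralizer ({g} : Set H)).map H.subtype) : c ∈ H ∧ Commute c (g : MulAut V) := by
  obtain ⟨c, hc', rfl⟩ := hc
  exact ⟨c.2, congrArg Subtype.val (Subgroup.mem_centralizer_singleton_iff.1 hc')⟩

theorem card_map_centralizer (H : Subgroup (MulAut V)) (g : H) :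
    Nat.card ((Subgroup.centralizer ({g} : Set H)).map H.subtype) = Nat.card (Subgroup.centralizer ({g} : Set H)) :=
  (Nat.card_congr (Subgroup.equivMapOfInjective _ _ H.subtype_injective).toEquiv).symm

/-- Class numbers from the centralisers of elements moving a line. -/
theorem kb_linewise (S : Subgroup (MulAut V)) (L : V → Subgroup V) (hmem : ∀ v, v ∈ L v)
    (hdis : ∀ v u, v ≠ 1 → u ∉ L v → L v ⊓ L u = ⊥) {w : V} (hw : w ≠ 1) (hproper : ∃ u, u ∉ L w) {M : ℕ}
    (hM : 1 ≤ M)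
    (hgood : ∀ x ∈ S, ∀ v, x v ∉ L v → ∀ C : Subgroup (MulAut V), C ≤ S → (∀ c ∈ C, Commute c x) →
      Nat.card C ≤ M) :
    KB S (Nat.card (L w) - 1 + M - 1) := by
  haveI := finite_aut (V := V)
  intro H'
  let H : Subgroup (MulAut V) := H'.map S.subtype
  have hHS : H ≤ S := Subgroup.map_subtype_le H'
  refine (k_le_of_surjective (H'.equivMapOfInjective S.subtype S.subtype_injective).symm.toMonoidHom
    (H'.equivMapOfInjective S.subtype S.subtype_injective).symm.surjective).trans ?_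
  show Nat.card (ConjClasses H) ≤ _
  have h2 : 1 ≤ Nat.card (L w) - 1 := by
    haveI : Nontrivial (L w) := ⟨⟨⟨w, hmem w⟩, 1, fun h => hw (congrArg Subtype.val h)⟩⟩
    have := Finite.one_lt_card (α := L w)
    omega
  refine k_le_of_bad {g : H | ∀ v, (g : MulAut V) v ∈ L v} h2 hM ?_ fun g hg => ?_
  · rw [← Set.ncard_image_of_injective _ Subtype.val_injective]
    refine ncard_linewise_le _ L hmem hdis ?_ hw hproper
    rintro _ ⟨g, hg, rfl⟩
    exact hg
  · simp only [Set.mem_setOf_eq, not_forall] at hg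
    obtain ⟨v, hv⟩ := hg
    rw [← card_map_centralizer]
    exact hgood (g : MulAut V) (hHS g.2) v hv _ (fun c hc => hHS (mem_map_centralizer hc).1)
      fun c hc => (mem_map_centralizer hc).2

/-- The subgroup generated by two points off a common cyclic line. -/
theorem two_points {q d : ℕ} (hq : q.Prime) (hexp : ∀ x : V, x ^ q = 1) (hV : Nat.card V = q ^ d) {v u : V}
    (hu : u ∉ Subgroup.zpowers v) (hv : v ≠ 1) :
    ∃ j, 2 ≤ j ∧ Nat.card (Subgroup.closure ({v, u} : Set V)) = q ^ j := by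
  haveI : Fact q.Prime := ⟨hq⟩
  obtain ⟨j, -, hj⟩ := (Nat.dvd_prime_pow hq).1 (hV ▸ Subgroup.card_subgroup_dvd_card (Subgroup.closure ({v, u} : Set V)))
  refine ⟨j, ?_, hj⟩
  have hlt : Subgroup.zpowers v < Subgroup.closure ({v, u} : Set V) :=
    lt_of_le_of_ne (Subgroup.zpowers_le.2 (Subgroup.subset_closure (by simp)))
      fun h => hu (h.ge (Subgroup.subset_closure (by simp)))
  have h1 : Nat.card (Subgroup.zpowers v) = q := by rw [Nat.card_zpowers, orderOf_eq_prime (hexp v) hv]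
  have h2 : Nat.card (Subgroup.zpowers v) < Nat.card (Subgroup.closure ({v, u} : Set V)) :=
    lt_of_le_of_ne (Subgroup.card_le_of_le hlt.le) fun h => hlt.ne (Subgroup.eq_of_le_of_card_ge hlt.le h.ge)
  rw [h1, hj] at h2
  exact (Nat.pow_lt_pow_iff_right hq.one_lt).1 (by rwa [pow_one])

theorem zpowers_dis {q : ℕ} (hq : q.Prime) (hexp : ∀ x : V, x ^ q = 1) (v u : V) (hu : u ∉ Subgroup.zpowers v) :
    Subgroup.zpowers v ⊓ Subgroup.zpowers u = ⊥ := by
  haveI : Fact q.Prime := ⟨hq⟩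
  have hu1 : u ≠ 1 := fun h => hu (h ▸ Subgroup.one_mem _)
  have hc : Nat.card (Subgroup.zpowers u) = q := by rw [Nat.card_zpowers, orderOf_eq_prime (hexp u) hu1]
  rcases (Nat.dvd_prime hq).1 (hc ▸ Subgroup.card_dvd_of_le (inf_le_right : Subgroup.zpowers v ⊓ Subgroup.zpowers u ≤ _)) with h | h
  · exact Subgroup.eq_bot_of_card_eq _ h
  · have := Subgroup.eq_of_le_of_card_ge (inf_le_right : Subgroup.zpowers v ⊓ Subgroup.zpowers u ≤ _) (h.trans hc.symm).ge
    exact absurd (this.ge (Subgroup.mem_zpowers u)).1 hu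

theorem kb_moved {q d : ℕ} (hq : q.Prime) (hd : 2 ≤ d) (hexp : ∀ x : V, x ^ q = 1) (hV : Nat.card V = q ^ d)
    (S : Subgroup (MulAut V)) (N : ℕ) (hN : 1 ≤ N)
    (hfix : ∀ (K : Subgroup V) (j : ℕ), 2 ≤ j → Nat.card K = q ^ j →
      ∀ C : Subgroup (MulAut V), C ≤ S → (∀ c ∈ C, ∀ y ∈ K, c y = y) → Nat.card C ≤ N) :
    KB S (q - 1 + (q ^ d - 1) * N - 1) := by
  classical
  haveI : Fact q.Prime := ⟨hq⟩
  haveI := finite_aut (V := V)
  have h4 : q < q ^ d := lt_self_pow₀ hq.one_lt (by omega)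
  obtain ⟨w, hw⟩ : ∃ w : V, w ≠ 1 := by
    haveI : Nontrivial V := Finite.one_lt_card_iff_nontrivial.1 (by rw [hV]; exact hq.one_lt.trans h4)
    exact exists_ne 1
  have hc : Nat.card (Subgroup.zpowers w) = q := by rw [Nat.card_zpowers, orderOf_eq_prime (hexp w) hw]
  have h := kb_linewise S (fun v => Subgroup.zpowers v) Subgroup.mem_zpowers
    (fun v u _ hu => zpowers_dis hq hexp v u hu) hw ?_ (M := (q ^ d - 1) * N)
    (Nat.one_le_iff_ne_zero.2 (Nat.mul_ne_zero (by have := hq.two_le; omega) (by omega))) ?_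
  · rwa [hc] at h
  · by_contra hall
    push Not at hall
    have := (Subgroup.eq_top_iff' _).2 hall
    have h' := congrArg (fun U : Subgroup V => Nat.card U) this
    simp only [Subgroup.card_top, hV, hc] at h'
    omega
  · intro x _ v hv C hCS hCx
    have hv1 : v ≠ 1 := fun h => hv (by rw [h, map_one]; exact Subgroup.one_mem _)
    obtain ⟨j, hj, hK⟩ := two_points hq hexp hV hv hv1
    let K := Subgroup.closure ({v, x v} : Set V)
    let F : Subgroup (MulAut V) := C ⊓ pointwiseFixer K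
    refine (card_le_orbit_mul C v {y | y ≠ 1}
      (fun c _ h => hv1 ((MulEquiv.map_eq_one_iff c).1 h)) F fun c hc hcv => ⟨hc, fun y hy => ?_⟩).trans ?_
    · induction hy using Subgroup.closure_induction with
      | mem y hy =>
        rcases hy with rfl | rfl
        · exact hcv
        · rw [← MulAut.mul_apply, (hCx c hc).eq, MulAut.mul_apply, hcv]
      | one => exact map_one _
      | mul a b _ _ ha hb => rw [map_mul, ha, hb]
      | inv a _ ha => rw [map_inv, ha]
    · refine Nat.mul_le_mul (le_of_eq ?_) (hfix K j hj hK F (inf_le_left.trans hCS) fun c hc => hc.2)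
      rw [show {y : V | y ≠ 1} = ({1} : Set V)ᶜ from rfl, Set.ncard_compl, Set.ncard_singleton, hV]

theorem prod_Ico_two_le {f : ℕ → ℕ} {j d : ℕ} (hj : 2 ≤ j) (hf : ∀ i, i < d → 1 ≤ f i) :
    ∏ i ∈ Finset.Ico j d, f i ≤ ∏ i ∈ Finset.Ico 2 d, f i :=
  Finset.prod_le_prod_of_subset_of_one_le' (Finset.Ico_subset_Ico hj le_rfl)
    fun i hi _ => hf i (Finset.mem_Ico.1 hi).2

/-- Any group of automorphisms. -/
theorem kb_general {q d : ℕ} (hq : q.Prime) (hd : 2 ≤ d) (hexp : ∀ x : V, x ^ q = 1) (hV : Nat.card V = q ^ d)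
    (S : Subgroup (MulAut V)) :
    KB S (q - 1 + (q ^ d - 1) * (∏ i ∈ Finset.Ico 2 d, (q ^ d - q ^ i)) - 1) := by
  haveI := finite_aut (V := V)
  have h1 : ∀ i, i < d → 1 ≤ q ^ d - q ^ i := fun i hi => by
    have := Nat.pow_lt_pow_right hq.one_lt hi
    omega
  refine kb_moved hq hd hexp hV S _ (Finset.one_le_prod' fun i hi => h1 i (Finset.mem_Ico.1 hi).2)
    fun K j hj hK C _ hC => ?_
  exact (Subgroup.card_le_of_le (K := pointwiseFixer K) fun c hc => hC c hc).trans
    ((card_pointwiseFixer_le hq hV _ j K rfl hK).trans (prod_Ico_two_le hj h1))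

variable {k : Type*} [Field k] (β : V →* V →* kˣ)

/-- The product bounding isometries fixing a subgroup. -/
theorem card_fix_isometry_le {q d : ℕ} (hq : q.Prime) (hV : Nat.card V = q ^ d)
    (hnd : ∀ y, (∀ x, β x y = 1) → y = 1) {K : Subgroup V} {j : ℕ} (hK : Nat.card K = q ^ j)
    {C : Subgroup (MulAut V)} (hiso : ∀ c ∈ C, ∀ x y, β (c x) (c y) = β x y) (hC : ∀ c ∈ C, ∀ y ∈ K, c y = y) :
    Nat.card C ≤ ∏ i ∈ Finset.Ico j d, min (q ^ d - q ^ i) (q ^ (d - i)) := by
  haveI := finite_aut (V := V)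
  have h := card_isoFix_le β hq hV hnd (1 : MulAut V) (Finset.range (d + 1))
    (fun H i _ hH => Finset.mem_range.2 (Nat.lt_succ_of_le ((Nat.pow_le_pow_iff_right hq.one_lt).1 (by
      rw [← hH, ← hV]; exact Subgroup.card_le_card_group H)))) _ j K rfl (fun h hh => hh) hK
  refine ((Subgroup.card_le_of_le (K := isoFix β 1 K) fun c hc =>
    ⟨hiso c hc, Commute.one_right c, hC c hc⟩).trans h).trans ?_
  rw [Finset.filter_true_of_mem fun i hi => Finset.mem_range.2 (Nat.lt_succ_of_lt (Finset.mem_Ico.1 hi).2)]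

/-- Isometries. -/
theorem kb_form {q d : ℕ} (hq : q.Prime) (hd : 2 ≤ d) (hexp : ∀ x : V, x ^ q = 1) (hV : Nat.card V = q ^ d)
    (hnd : ∀ y, (∀ x, β x y = 1) → y = 1) (S : Subgroup (MulAut V))
    (hS : ∀ φ ∈ S, ∀ x y, β (φ x) (φ y) = β x y) :
    KB S (q - 1 + (q ^ d - 1) * (∏ i ∈ Finset.Ico 2 d, min (q ^ d - q ^ i) (q ^ (d - i))) - 1) := by
  have h1 : ∀ i, i < d → 1 ≤ min (q ^ d - q ^ i) (q ^ (d - i)) := fun i hi => by
    have := Nat.pow_lt_pow_right hq.one_lt hi
    exact le_min (by omega) (pow_pos hq.pos _)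
  refine kb_moved hq hd hexp hV S _ (Finset.one_le_prod' fun i hi => h1 i (Finset.mem_Ico.1 hi).2)
    fun K j hj hK C hCS hC => ?_
  exact (card_fix_isometry_le β hq hV hnd hK (fun c hc => hS c (hCS hc)) hC).trans (prod_Ico_two_le hj h1)

end CfsgLib.FitMod
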